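import Mathlib

/-! Trigonometric sums, Dickson polynomials and alternating products for the theorem of Feit and Higman. -/

set_option autoImplicit false

open Polynomial Real

namespace CfsgLib.FeitHigman

/-- The alternating product `a b a b …` with `k` factors. -/
def alt {M : Type*} [Monoid M] : M → M → ℕ → M
  | _, _, 0 => 1
  | a, b, k + 1 => a * alt b a k

theorem alt_two_mul {M : Type*} [Monoid M] (a b : M) : ∀ k, alt a b (2 * k) = (a * b) ^ k
  | 0 => by simp [alt]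
  | k + 1 => by
    show a * (b * alt a b (2 * k)) = _
    rw [alt_two_mul a b k, pow_succ', mul_assoc]

theorem alt_two_mul_succ {M : Type*} [Monoid M] (a b : M) (k : ℕ) :
    alt a b (2 * k + 1) = a * (b * a) ^ k := by
  show a * alt b a (2 * k) = _
  rw [alt_two_mul]

theorem alt_smul {A : Type*} [Ring A] [Algebra ℝ A] :
    ∀ (k : ℕ) (c c' : ℝ) (a b : A), alt (c • a) (c' • b) k = alt c c' k • alt a b k
  | 0, _, _, _, _ => by simp [alt]
  | k + 1, c, c', a, b => by
    show c • a * alt (c' • b) (c • a) k = (c * alt c' c k) • (a * alt b a k)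
    rw [alt_smul k, smul_mul_assoc, mul_smul_comm, smul_smul]

theorem alt_mul_eigen {A : Type*} [Ring A] [Algebra ℝ A] :
    ∀ (k : ℕ) (a b x : A) (s t : ℝ), a * x = s • x → b * x = t • x →
      alt a b k * x = alt s t k • x
  | 0, _, _, x, _, _, _, _ => by simp [alt]
  | k + 1, a, b, x, s, t, hs, ht => by
    show a * alt b a k * x = (s * alt t s k) • x
    rw [mul_assoc, alt_mul_eigen k b a x t s ht hs, mul_smul_comm, hs, smul_smul, mul_comm]

theorem alt_pos : ∀ (k : ℕ) (s t : ℝ), 0 < s → 0 < t → 0 < alt s t k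
  | 0, _, _, _, _ => one_pos
  | k + 1, s, t, hs, ht => mul_pos hs (alt_pos k t s ht hs)

theorem sum_alt_two_mul (a b : ℝ) : ∀ d : ℕ,
    ∑ k ∈ Finset.range (2 * d), alt b a k = (1 + b) * ∑ k ∈ Finset.range d, (b * a) ^ k
  | 0 => by simp
  | d + 1 => by
    rw [show 2 * (d + 1) = 2 * d + 1 + 1 by ring, Finset.sum_range_succ, Finset.sum_range_succ,
      Finset.sum_range_succ (f := fun k => (b * a) ^ k), sum_alt_two_mul a b d, alt_two_mul,
      alt_two_mul_succ, mul_comm a b]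
    ring

/-! ### Dickson polynomials -/

/-- Dickson polynomials of the first kind. -/
noncomputable def dick (p : ℝ) : ℕ → ℝ[X]
  | 0 => C 2
  | 1 => X
  | k + 2 => X * dick p (k + 1) - C p * dick p k

/-- Dickson polynomials of the second kind, shifted. -/
noncomputable def sec (p : ℝ) : ℕ → ℝ[X]
  | 0 => 0
  | 1 => 1
  | k + 2 => X * sec p (k + 1) - C p * sec p k

theorem dick_eval {p u θ : ℝ} (hu : u ^ 2 = p) :
    ∀ k : ℕ, (dick p k).eval (2 * u * cos θ) = 2 * u ^ k * cos (k * θ)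
  | 0 => by simp [dick]
  | 1 => by simp [dick]
  | k + 2 => by
    rw [dick, eval_sub, eval_mul, eval_mul, eval_X, eval_C, dick_eval hu (k + 1), dick_eval hu k]
    have e1 : ((k + 2 : ℕ) : ℝ) * θ = ((k + 1 : ℕ) : ℝ) * θ + θ := by push_cast; ring
    have e2 : (k : ℝ) * θ = ((k + 1 : ℕ) : ℝ) * θ - θ := by push_cast; ring
    rw [e1, e2, cos_add, cos_sub, ← hu]
    ring

theorem sec_eval {p u θ : ℝ} (hu : u ^ 2 = p) :
    ∀ k : ℕ, (sec p k).eval (2 * u * cos θ) * (u * sin θ) = u ^ k * sin (k * θ)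
  | 0 => by simp [sec]
  | 1 => by simp [sec]
  | k + 2 => by
    rw [sec, eval_sub, eval_mul, eval_mul, eval_X, eval_C]
    have h1 := sec_eval hu (k + 1) (θ := θ)
    have h0 := sec_eval hu k (θ := θ)
    have hsin : sin ((k + 2 : ℕ) * θ) = 2 * cos θ * sin ((k + 1 : ℕ) * θ) - sin (k * θ) := by
      have e1 : ((k + 2 : ℕ) : ℝ) * θ = ((k + 1 : ℕ) : ℝ) * θ + θ := by push_cast; ring
      have e2 : (k : ℝ) * θ = ((k + 1 : ℕ) : ℝ) * θ - θ := by push_cast; ring
      rw [e1, e2, sin_add, sin_sub]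
      ring
    linear_combination (2 * u * cos θ) * h1 - p * h0 - u ^ (k + 2) * hsin +
      (u ^ k * sin (k * θ)) * hu

theorem sec_coeff (p : ℝ) :
    ∀ k : ℕ, (sec p (k + 1)).Monic ∧ (sec p (k + 1)).natDegree = k ∧
      (sec p k).natDegree ≤ k - 1 := by
  intro k
  induction k with
  | zero => exact ⟨monic_one, natDegree_one, by simp [sec]⟩
  | succ k ih =>
    obtain ⟨h1, h2, h3⟩ := ih
    have hdeg : (X * sec p (k + 1)).degree = ((k + 1 : ℕ) : WithBot ℕ) := by
      rw [degree_eq_natDegree (monic_X.mul h1).ne_zero, natDegree_mul X_ne_zero h1.ne_zero,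
        natDegree_X, h2, add_comm 1 k]
    have hlt : (C p * sec p k).degree < (X * sec p (k + 1)).degree := by
      rw [hdeg]
      refine lt_of_le_of_lt degree_le_natDegree ?_
      have := natDegree_C_mul_le p (sec p k)
      exact_mod_cast (show (C p * sec p k).natDegree < k + 1 by omega)
    refine ⟨(monic_X.mul h1).sub_of_left hlt, ?_, by omega⟩
    have : (sec p (k + 1 + 1)).degree = ((k + 1 : ℕ) : WithBot ℕ) := by
      rw [sec, degree_sub_eq_left_of_degree_lt hlt, hdeg]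
    exact natDegree_eq_of_degree_eq_some this

/-! ### Cosine sums -/

/-- The partial sums `1 + 2 ∑ w^k cos kφ`. -/
noncomputable def cosPart (n : ℕ) (w φ : ℝ) : ℝ :=
  1 + 2 * ∑ k ∈ Finset.range n, w ^ (k + 1) * cos ((k + 1 : ℕ) * φ)

theorem cosPart_eq (w φ : ℝ) : ∀ n : ℕ, (1 - 2 * w * cos φ + w ^ 2) * cosPart n w φ =
    1 - w ^ 2 - 2 * w ^ (n + 1) * cos ((n + 1 : ℕ) * φ) + 2 * w ^ (n + 2) * cos (n * φ)
  | 0 => by simp [cosPart]; ring
  | n + 1 => by
    have h : cosPart (n + 1) w φ = cosPart n w φ + 2 * (w ^ (n + 1) * cos ((n + 1 : ℕ) * φ)) := by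
      rw [cosPart, cosPart, Finset.sum_range_succ]; ring
    rw [h, mul_add, cosPart_eq w φ n]
    have e1 : ((n + 1 + 1 : ℕ) : ℝ) * φ = ((n + 1 : ℕ) : ℝ) * φ + φ := by push_cast; ring
    have e2 : (n : ℝ) * φ = ((n + 1 : ℕ) : ℝ) * φ - φ := by push_cast; ring
    rw [e1, e2, cos_add, cos_sub]
    ring

/-- The full sum for an even polygon. -/
noncomputable def evenSum (m : ℕ) (w φ : ℝ) : ℝ :=
  cosPart m w φ + w ^ (m + 1) * cos ((m + 1 : ℕ) * φ)

theorem evenSum_eq {m : ℕ} {w φ : ℝ} (h : sin ((m + 1 : ℕ) * φ) = 0) :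
    (1 - 2 * w * cos φ + w ^ 2) * evenSum m w φ =
      (1 - w ^ 2) * (1 - cos ((m + 1 : ℕ) * φ) * w ^ (m + 1)) := by
  have e2 : cos (m * φ) = cos ((m + 1 : ℕ) * φ) * cos φ := by
    have : (m : ℝ) * φ = ((m + 1 : ℕ) : ℝ) * φ - φ := by push_cast; ring
    rw [this, cos_sub, h, zero_mul, add_zero]
  rw [evenSum, mul_add, cosPart_eq, e2]
  ring

theorem oddSum_eq {h : ℕ} {w φ : ℝ} (hφ : cos ((h + 1 : ℕ) * φ) = cos (h * φ)) :
    (1 - 2 * w * cos φ + w ^ 2) * cosPart h w φ =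
      (1 - w) * (1 + w - 2 * cos (h * φ) * w ^ (h + 1)) := by
  rw [cosPart_eq, hφ]
  ring

theorem cos_eq_one_imp {φ : ℝ} (h1 : -(2 * π) < φ) (h2 : φ < 2 * π) (h : cos φ = 1) : φ = 0 :=
  (cos_eq_one_iff_of_lt_of_lt h1 h2).1 h

theorem evenSum_one_zero (m : ℕ) : evenSum m 1 0 = 2 * (m + 1 : ℕ) := by
  simp [evenSum, cosPart]
  ring

theorem cosPart_one_zero (h : ℕ) : cosPart h 1 0 = (2 * h + 1 : ℕ) := by
  simp [cosPart]
  ring

theorem evenSum_one {m : ℕ} {z : ℤ} (h1 : -(2 * (m + 1 : ℤ)) < z) (h2 : z < 2 * (m + 1 : ℤ)) :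
    evenSum m 1 (z * (π / (m + 1 : ℕ))) = if z = 0 then 2 * ((m + 1 : ℕ) : ℝ) else 0 := by
  split
  · next h => subst h; simpa using evenSum_one_zero m
  · next h =>
    have hd : (0 : ℝ) < (m + 1 : ℕ) := by positivity
    have hs : sin ((m + 1 : ℕ) * ((z : ℝ) * (π / (m + 1 : ℕ)))) = 0 := by
      rw [show ((m + 1 : ℕ) : ℝ) * ((z : ℝ) * (π / (m + 1 : ℕ))) = (z : ℝ) * π by field_simp]
      exact sin_int_mul_pi z
    have he := evenSum_eq (w := 1) hs
    simp only [one_pow, mul_one, sub_self, zero_mul] at he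
    rcases mul_eq_zero.1 he with hc | hc
    · exfalso
      have h1' : (-(2 * ((m + 1 : ℕ) : ℝ))) < z := by exact_mod_cast h1
      have h2' : (z : ℝ) < 2 * ((m + 1 : ℕ) : ℝ) := by exact_mod_cast h2
      have hφ := cos_eq_one_imp (φ := (z : ℝ) * (π / (m + 1 : ℕ)))
        (by rw [mul_div, lt_div_iff₀ hd]; nlinarith [pi_pos])
        (by rw [mul_div, div_lt_iff₀ hd]; nlinarith [pi_pos]) (by linarith)
      rcases mul_eq_zero.1 hφ with e | e
      · exact h (by exact_mod_cast e)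
      · exact (div_pos pi_pos hd).ne' e
    · exact hc

theorem oddSum_one {h : ℕ} {z : ℤ} (h1 : -(2 * h + 1 : ℤ) < z) (h2 : z < (2 * h + 1 : ℤ)) :
    cosPart h 1 (z * (2 * π / (2 * h + 1 : ℕ))) = if z = 0 then ((2 * h + 1 : ℕ) : ℝ) else 0 := by
  split
  · next e => subst e; simpa using cosPart_one_zero h
  · next e =>
    have hd : (0 : ℝ) < (2 * h + 1 : ℕ) := by positivity
    set φ := (z : ℝ) * (2 * π / (2 * h + 1 : ℕ)) with hφ
    have hs : cos ((h + 1 : ℕ) * φ) = cos (h * φ) := by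
      have : ((h + 1 : ℕ) : ℝ) * φ = z * (2 * π) - h * φ := by
        rw [hφ]; push_cast; field_simp; ring
      rw [this, cos_int_mul_two_pi_sub]
    have he := oddSum_eq (w := 1) hs
    simp only [one_pow, mul_one, sub_self, zero_mul] at he
    rcases mul_eq_zero.1 he with hc | hc
    · exfalso
      have h1' : (-(((2 * h + 1 : ℕ)) : ℝ)) < z := by exact_mod_cast h1
      have h2' : (z : ℝ) < ((2 * h + 1 : ℕ) : ℝ) := by exact_mod_cast h2
      have hz := cos_eq_one_imp (φ := φ)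
        (by rw [hφ, mul_div, lt_div_iff₀ hd]; nlinarith [pi_pos])
        (by rw [hφ, mul_div, div_lt_iff₀ hd]; nlinarith [pi_pos]) (by linarith)
      rcases mul_eq_zero.1 hz with e' | e'
      · exact e (by exact_mod_cast e')
      · exact (div_pos (by positivity : (0:ℝ) < 2 * π) hd).ne' e'
    · exact hc

theorem cos_mul_cos (w : ℕ) (a b : ℝ) :
    cos (w * a) * cos (w * b) = (cos (w * (a + b)) + cos (w * (a - b))) / 2 := by
  rw [mul_add, mul_sub, cos_add, cos_sub]; ring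

theorem cosPart_mul (n : ℕ) (a b : ℝ) :
    1 + 2 * ∑ k ∈ Finset.range n, cos ((k + 1 : ℕ) * a) * cos ((k + 1 : ℕ) * b) =
      (cosPart n 1 (a + b) + cosPart n 1 (a - b)) / 2 := by
  simp only [cosPart, one_pow, one_mul, cos_mul_cos, ← Finset.sum_div, Finset.sum_add_distrib]
  ring

end CfsgLib.FeitHigman
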