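import Mathlib
import Cfsg.Agent.Lib.FeitHigman.Basic

/-! Two quadratic operators and the central element they generate. -/

set_option autoImplicit false

open Polynomial Matrix

namespace CfsgLib.FeitHigman

section ring

variable {R : Type*} [Ring R] [Algebra ℝ R]

/-- A pair of operators with quadratic relations. -/
structure Quad (R : Type*) [Ring R] [Algebra ℝ R] where
  A : R
  B : R
  q : ℝ
  r : ℝ
  hA : A * A = (q - 1) • A + q • (1 : R)
  hB : B * B = (r - 1) • B + r • (1 : R)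

namespace Quad

variable (S : Quad R)

/-- Exchange the operators. -/
def swap : Quad R := ⟨S.B, S.A, S.r, S.q, S.hB, S.hA⟩

/-- The central element. -/
def Y : R := S.A * S.B + S.B * S.A - (S.r - 1) • S.A - (S.q - 1) • S.B +
  ((S.q - 1) * (S.r - 1)) • (1 : R)

theorem swap_Y : S.swap.Y = S.Y := by
  simp only [swap, Y]
  module

theorem hA' (x : R) : S.A * (S.A * x) = (S.q - 1) • (S.A * x) + S.q • x := by
  rw [← mul_assoc, S.hA, add_mul, smul_mul_assoc, smul_mul_assoc, one_mul]

theorem hB' (x : R) : S.B * (S.B * x) = (S.r - 1) • (S.B * x) + S.r • x := by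
  rw [← mul_assoc, S.hB, add_mul, smul_mul_assoc, smul_mul_assoc, one_mul]

theorem commA : S.A * S.Y = S.Y * S.A := by
  simp only [Y, mul_add, add_mul, mul_sub, sub_mul, smul_mul_assoc, mul_smul_comm, mul_assoc,
    mul_one, one_mul, smul_add, smul_sub, smul_smul, S.hA, S.hB, S.hA', S.hB']
  module

theorem commB : S.B * S.Y = S.Y * S.B := by
  have := S.swap.commA
  rwa [swap_Y] at this

theorem recur : (S.A * S.B) * (S.A * S.B) = S.Y * (S.A * S.B) - (S.q * S.r) • (1 : R) := by
  simp only [Y, mul_add, add_mul, mul_sub, sub_mul, smul_mul_assoc, mul_smul_comm, mul_assoc,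
    mul_one, one_mul, smul_add, smul_sub, smul_smul, S.hA, S.hB, S.hA', S.hB']
  module

theorem commAB_aeval (g : ℝ[X]) :
    Commute S.A (aeval S.Y g) ∧ Commute S.B (aeval S.Y g) := by
  induction g using Polynomial.induction_on with
  | C a => simp [Algebra.commute_algebraMap_right]
  | add g h hg hh => simp only [map_add]; exact ⟨hg.1.add_right hh.1, hg.2.add_right hh.2⟩
  | monomial n a _ =>
    simp only [map_mul, aeval_C, map_pow, aeval_X]
    exact ⟨(Algebra.commute_algebraMap_right a _).mul_right ((show Commute _ _ from S.commA).pow_right _),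
      (Algebra.commute_algebraMap_right a _).mul_right ((show Commute _ _ from S.commB).pow_right _)⟩

theorem Y_comm (g : ℝ[X]) : S.Y * aeval S.Y g = aeval S.Y g * S.Y := by
  have h : aeval S.Y (X * g) = aeval S.Y (g * X) := by rw [mul_comm]
  rwa [map_mul, map_mul, aeval_X] at h

theorem pow_eq (k : ℕ) : (S.A * S.B) ^ (k + 1) =
    aeval S.Y (sec (S.q * S.r) (k + 1)) * (S.A * S.B) -
      (S.q * S.r) • aeval S.Y (sec (S.q * S.r) k) := by
  induction k with
  | zero => simp [sec]
  | succ k ih =>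
    rw [pow_succ, ih, sub_mul, mul_assoc, recur, smul_mul_assoc, sec]
    simp only [map_sub, map_mul, aeval_X, aeval_C, Algebra.algebraMap_eq_smul_one, sub_mul,
      mul_sub, ← mul_assoc, mul_smul_comm, smul_mul_assoc, mul_one, one_mul]
    rw [S.Y_comm]
    module

/-- If `(AB)^(k+1) = (BA)^(k+1)` then the `k+1`-st polynomial kills the commutator. -/
theorem annihilate {k : ℕ} (h : (S.A * S.B) ^ (k + 1) = (S.B * S.A) ^ (k + 1)) :
    aeval S.Y (sec (S.q * S.r) (k + 1)) * (S.A * S.B - S.B * S.A) = 0 := by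
  have h2 : (S.B * S.A) ^ (k + 1) = _ := S.swap.pow_eq k
  have h1 := S.pow_eq k
  rw [swap_Y] at h2
  simp only [swap, mul_comm S.r S.q] at h2
  rw [h, h2] at h1
  rw [mul_sub, sub_eq_zero]
  exact (sub_left_inj.1 h1).symm

/-- The square of the commutator. -/
theorem comm_sq : (S.A * S.B - S.B * S.A) * (S.A * S.B - S.B * S.A) =
    aeval S.Y ((X - C (S.q * S.r + 1)) * (X + C (S.q + S.r))) := by
  simp only [map_mul, map_sub, map_add, aeval_X, aeval_C, Algebra.algebraMap_eq_smul_one, Y,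
    mul_add, add_mul, mul_sub, sub_mul, smul_mul_assoc, mul_smul_comm, mul_assoc, map_one,
    mul_one, one_mul, smul_add, smul_sub, smul_smul, add_smul, S.hA, S.hB, S.hA', S.hB']
  module

theorem comm_anti : (S.A * S.B - S.B * S.A) * ((2 : ℝ) • S.A - (S.q - 1) • (1 : R)) =
    -(((2 : ℝ) • S.A - (S.q - 1) • (1 : R)) * (S.A * S.B - S.B * S.A)) := by
  simp only [mul_add, add_mul, mul_sub, sub_mul, smul_mul_assoc, mul_smul_comm, mul_assoc,
    mul_one, one_mul, smul_add, smul_sub, smul_smul, S.hA, S.hB, S.hA', S.hB']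
  module

theorem comm_anti' : (S.A * S.B - S.B * S.A) * ((2 : ℝ) • S.B - (S.r - 1) • (1 : R)) =
    -(((2 : ℝ) • S.B - (S.r - 1) • (1 : R)) * (S.A * S.B - S.B * S.A)) := by
  have h := S.swap.comm_anti
  simp only [swap] at h
  rw [← neg_sub (S.B * S.A) (S.A * S.B), neg_mul, mul_neg, h]

theorem two_mul_AB : (2 : ℝ) • (S.A * S.B) = S.Y + (S.A * S.B - S.B * S.A) +
    ((S.r - 1) / 2) • ((2 : ℝ) • S.A - (S.q - 1) • (1 : R)) +
    ((S.q - 1) / 2) • ((2 : ℝ) • S.B - (S.r - 1) • (1 : R)) := by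
  simp only [Y]
  module

theorem alt_three (hqr : S.r = S.q) :
    S.A * (S.B * S.A) - S.B * (S.A * S.B) = (S.Y + S.q • (1 : R)) * (S.A - S.B) := by
  simp only [Y, hqr, mul_add, add_mul, mul_sub, sub_mul, smul_mul_assoc, mul_smul_comm, mul_assoc,
    mul_one, one_mul, smul_add, smul_sub, smul_smul, S.hA, S.hB, S.hA', S.hB']
  module

theorem diff_sq (hqr : S.r = S.q) :
    (S.A - S.B) * (S.A - S.B) = aeval S.Y (C (S.q * S.q + 1) - X) := by
  simp only [map_sub, aeval_X, aeval_C, Algebra.algebraMap_eq_smul_one, Y, hqr, mul_add, add_mul,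
    mul_sub, sub_mul, smul_mul_assoc, mul_smul_comm, mul_assoc, mul_one, one_mul, smul_add,
    smul_sub, smul_smul, S.hA, S.hB, add_smul]
  module

theorem diff_anti (hqr : S.r = S.q) :
    (S.A - S.B) * (S.A + S.B - (S.q - 1) • (1 : R)) =
      -((S.A + S.B - (S.q - 1) • (1 : R)) * (S.A - S.B)) := by
  simp only [hqr, mul_add, add_mul, mul_sub, sub_mul, smul_mul_assoc, mul_smul_comm, mul_assoc,
    mul_one, one_mul, smul_add, smul_sub, smul_smul, S.hA, S.hB]
  module

/-- If `A (BA)^k = B (AB)^k` then `F(Y) (A - B) = 0`. -/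
theorem annihilate_odd (hqr : S.r = S.q) {k : ℕ}
    (h : S.A * (S.B * S.A) ^ (k + 1) = S.B * (S.A * S.B) ^ (k + 1)) :
    aeval S.Y (sec (S.q * S.q) (k + 2) + C S.q * sec (S.q * S.q) (k + 1)) * (S.A - S.B) = 0 := by
  have h2 : (S.B * S.A) ^ (k + 1) = _ := S.swap.pow_eq k
  rw [swap_Y] at h2
  simp only [swap] at h2
  rw [S.pow_eq k, h2] at h
  simp only [hqr] at h
  obtain ⟨hA1, hB1⟩ := S.commAB_aeval (sec (S.q * S.q) (k + 1))
  obtain ⟨hA0, hB0⟩ := S.commAB_aeval (sec (S.q * S.q) k)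
  rw [mul_sub, mul_sub, ← mul_assoc, hA1.eq, mul_assoc, mul_smul_comm, hA0.eq, ← mul_assoc S.B,
    hB1.eq, mul_assoc, mul_smul_comm, hB0.eq] at h
  have h' : aeval S.Y (sec (S.q * S.q) (k + 1)) * (S.A * (S.B * S.A) - S.B * (S.A * S.B)) -
      (S.q * S.q) • (aeval S.Y (sec (S.q * S.q) k) * (S.A - S.B)) = 0 := by
    rw [← sub_eq_zero] at h
    rw [← h, mul_sub, mul_sub, smul_sub]
    abel
  rw [S.alt_three hqr] at h'
  rw [← h', sec]
  simp only [map_add, map_sub, map_mul, aeval_X, aeval_C, Algebra.algebraMap_eq_smul_one, add_mul,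
    sub_mul, mul_add, mul_sub, smul_mul_assoc, mul_smul_comm, one_mul, mul_one, smul_smul,
    smul_sub, ← mul_assoc]
  rw [S.Y_comm]
  module

end Quad

end ring

end CfsgLib.FeitHigman
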