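import Mathlib

/-! Functional calculus on a finite set of nodes for an operator annihilated by their product. -/

set_option autoImplicit false

open Polynomial

namespace CfsgLib.FeitHigman

theorem trace_idem_nat {Ω : Type*} [Fintype Ω] [DecidableEq Ω] {E : Matrix Ω Ω ℝ}
    (hE : E * E = E) : ∃ m : ℕ, E.trace = m := by
  have h : IsIdempotentElem (Matrix.toLin' E) := by
    rw [IsIdempotentElem, Module.End.mul_eq_comp, ← Matrix.toLin'_mul, hE]
  obtain ⟨p, hp⟩ : ∃ p, LinearMap.IsProj p (Matrix.toLin' E) :=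
    ⟨_, LinearMap.IsIdempotentElem.isProj_range _ h⟩
  exact ⟨Module.finrank ℝ p, by rw [← Matrix.trace_toLin'_eq, hp.trace]⟩

/-- The nodes annihilate. -/
def Ann {R : Type*} [Ring R] [Algebra ℝ R] (Y : R) (s : Finset ℝ) : Prop :=
  ∀ g : ℝ[X], (∀ x ∈ s, g.eval x = 0) → aeval Y g = 0

theorem ann_of_monic {R : Type*} [Ring R] [Algebra ℝ R] {Y : R} {s : Finset ℝ} {F : ℝ[X]}
    (hF : F.Monic) (hdeg : F.natDegree ≤ s.card) (hroot : ∀ x ∈ s, F.eval x = 0)
    (hY : aeval Y F = 0) : Ann Y s := by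
  intro g hg
  have key : ∀ G : ℝ[X], (∀ x ∈ s, G.eval x = 0) → (∏ x ∈ s, (X - C x)) ∣ G := fun G hG =>
    Finset.prod_dvd_of_coprime
      (fun x _ y _ hxy => (pairwise_coprime_X_sub_C (s := id) Function.injective_id) hxy)
      (fun x hx => dvd_iff_isRoot.2 (hG x hx))
  have hP : (∏ x ∈ s, (X - C x)).Monic := monic_prod_of_monic _ _ fun x _ => monic_X_sub_C x
  have hFP : F = ∏ x ∈ s, (X - C x) := by
    refine eq_of_monic_of_dvd_of_natDegree_le hP hF (key F hroot) ?_
    rwa [natDegree_finsetProd_X_sub_C_eq_card]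
  obtain ⟨c, rfl⟩ := key g hg
  rw [map_mul, ← hFP, hY, zero_mul]

variable {R : Type*} [Ring R] [Algebra ℝ R]

/-- Apply a function given on the nodes. -/
noncomputable def fn (Y : R) (s : Finset ℝ) (f : ℝ → ℝ) : R :=
  aeval Y (Lagrange.interpolate s id f)

theorem Ann.aeval_eq {Y : R} {s : Finset ℝ} (h : Ann Y s) {g : ℝ[X]} {f : ℝ → ℝ}
    (hg : ∀ x ∈ s, g.eval x = f x) : aeval Y g = fn Y s f := by
  rw [fn, ← sub_eq_zero, ← map_sub]
  refine h _ fun x hx => ?_
  have := Lagrange.eval_interpolate_at_node f (s := s) (v := id) Function.injective_id.injOn hx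
  rw [id] at this
  rw [eval_sub, this, hg x hx, sub_self]

theorem eval_interp {s : Finset ℝ} (f : ℝ → ℝ) {x : ℝ} (hx : x ∈ s) :
    (Lagrange.interpolate s id f).eval x = f x :=
  Lagrange.eval_interpolate_at_node f (s := s) (v := id) Function.injective_id.injOn hx

theorem Ann.fn_congr {Y : R} {s : Finset ℝ} (h : Ann Y s) {f g : ℝ → ℝ}
    (hfg : ∀ x ∈ s, f x = g x) : fn Y s f = fn Y s g :=
  h.aeval_eq fun x hx => (eval_interp f hx).trans (hfg x hx)

theorem Ann.fn_mul {Y : R} {s : Finset ℝ} (h : Ann Y s) (f g : ℝ → ℝ) :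
    fn Y s f * fn Y s g = fn Y s (fun x => f x * g x) := by
  rw [fn, fn, ← map_mul]
  exact h.aeval_eq fun x hx => by rw [eval_mul, eval_interp f hx, eval_interp g hx]

theorem Ann.fn_one {Y : R} {s : Finset ℝ} (h : Ann Y s) : fn Y s (fun _ => 1) = 1 := by
  rw [← h.aeval_eq (g := 1) (fun x _ => by simp), map_one]

theorem fn_add {Y : R} {s : Finset ℝ} (f g : ℝ → ℝ) :
    fn Y s (fun x => f x + g x) = fn Y s f + fn Y s g := by
  rw [fn, fn, fn, ← map_add, ← map_add]
  rfl

theorem fn_smul {Y : R} {s : Finset ℝ} (c : ℝ) (f : ℝ → ℝ) :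
    fn Y s (fun x => c * f x) = c • fn Y s f := by
  rw [fn, fn, ← map_smul, ← map_smul]
  rfl

theorem Ann.mul_Y {Y : R} {s : Finset ℝ} (h : Ann Y s) (f : ℝ → ℝ) :
    Y * fn Y s f = fn Y s (fun x => x * f x) := by
  have h1 : Y * fn Y s f = aeval Y (X * Lagrange.interpolate s id f) := by
    rw [map_mul, aeval_X, fn]
  rw [h1]
  exact h.aeval_eq fun x hx => by rw [eval_mul, eval_X, eval_interp f hx]

theorem aeval_mul_eigen {Y E : R} {y : ℝ} (hE : Y * E = y • E) (g : ℝ[X]) :
    aeval Y g * E = g.eval y • E := by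
  induction g using Polynomial.induction_on' with
  | add g h hg hh => rw [map_add, add_mul, hg, hh, eval_add, add_smul]
  | monomial n a =>
    rw [aeval_monomial, eval_monomial, mul_assoc, ← Algebra.smul_def]
    induction n with
    | zero => simp
    | succ n ih =>
      rw [pow_succ', mul_assoc, ← mul_smul_comm, ih, mul_smul_comm, hE, smul_smul, pow_succ]
      ring_nf

theorem fn_mul_eigen {Y E : R} {y : ℝ} (hE : Y * E = y • E) {s : Finset ℝ} (f : ℝ → ℝ)
    (hy : y ∈ s) : fn Y s f * E = f y • E := by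
  rw [fn, aeval_mul_eigen hE, eval_interp f hy]

end CfsgLib.FeitHigman
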