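import Mathlib
import Cfsg.Agent.Lib.FeitHigman.Algebra
import Cfsg.Agent.Lib.FeitHigman.Spectral

/-! Traces of the projections on joint eigenspaces. -/

set_option autoImplicit false

open Polynomial Matrix

namespace CfsgLib.FeitHigman

variable {R : Type*} [Ring R] [Algebra ℝ R]

/-- The indicator of a node. -/
noncomputable def ind (x : ℝ) : ℝ → ℝ := fun z => if z = x then 1 else 0

/-- Projection on the `l`-eigenspace of an operator with eigenvalues `l, o`. -/
noncomputable def pr (A : R) (l o : ℝ) : R := (l - o)⁻¹ • (A - o • (1 : R))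

theorem pr_add {A : R} {l o : ℝ} (h : l ≠ o) : pr A l o + pr A o l = 1 := by
  have h1 : l - o ≠ 0 := sub_ne_zero.2 h
  have h2 : (o - l)⁻¹ = -(l - o)⁻¹ := by rw [← inv_neg, neg_sub]
  rw [pr, pr, h2]
  calc (l - o)⁻¹ • (A - o • (1 : R)) + -(l - o)⁻¹ • (A - l • (1 : R))
      = ((l - o)⁻¹ * (l - o)) • (1 : R) := by module
    _ = 1 := by rw [inv_mul_cancel₀ h1, one_smul]

theorem mul_pr {A : R} {l o : ℝ} (hA : A * A = (l + o) • A - (l * o) • (1 : R)) :
    A * pr A l o = l • pr A l o := by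
  rw [pr, mul_smul_comm, mul_sub, hA, mul_smul_comm, mul_one]
  module

theorem pr_mul_eigen {A E : R} {l o : ℝ} (h : l ≠ o) (hE : A * E = l • E) : pr A l o * E = E := by
  rw [pr, smul_mul_assoc, sub_mul, hE, smul_mul_assoc, one_mul, ← sub_smul, smul_smul,
    inv_mul_cancel₀ (sub_ne_zero.2 h), one_smul]

namespace Quad

variable (S : Quad R) (s : Finset ℝ)

/-- The joint projection inside the eigenspace of `Y` at `x`. -/
noncomputable def joint (x la oa lb ob : ℝ) : R :=
  fn S.Y s (ind x) * pr S.A la oa * pr S.B lb ob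

/-- The value of `Y` on a joint eigenvector. -/
def jointVal (la lb : ℝ) : ℝ :=
  2 * la * lb - (S.r - 1) * la - (S.q - 1) * lb + (S.q - 1) * (S.r - 1)

variable {S s}

theorem commute_fn (f : ℝ → ℝ) : Commute S.A (fn S.Y s f) ∧ Commute S.B (fn S.Y s f) :=
  S.commAB_aeval _

theorem pr_swap {x : ℝ} (hc : fn S.Y s (ind x) * (S.A * S.B) = fn S.Y s (ind x) * (S.B * S.A))
    (la oa lb ob : ℝ) :
    fn S.Y s (ind x) * pr S.A la oa * pr S.B lb ob =
      fn S.Y s (ind x) * pr S.B lb ob * pr S.A la oa := by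
  simp only [pr, mul_smul_comm, smul_mul_assoc, mul_sub, sub_mul, mul_assoc, hc, mul_one, one_mul,
    smul_sub, smul_smul]
  module

theorem mul_joint {x la oa lb ob : ℝ}
    (hc : fn S.Y s (ind x) * (S.A * S.B) = fn S.Y s (ind x) * (S.B * S.A))
    (ha : S.A * S.A = (la + oa) • S.A - (la * oa) • (1 : R))
    (hb : S.B * S.B = (lb + ob) • S.B - (lb * ob) • (1 : R)) :
    S.A * S.joint s x la oa lb ob = la • S.joint s x la oa lb ob ∧
      S.B * S.joint s x la oa lb ob = lb • S.joint s x la oa lb ob := by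
  constructor
  · rw [joint, ← mul_assoc, ← mul_assoc, (commute_fn (S := S) (s := s) (ind x)).1.eq,
      mul_assoc (fn S.Y s (ind x)), mul_pr ha, mul_smul_comm, smul_mul_assoc]
  · rw [joint, pr_swap hc, ← mul_assoc, ← mul_assoc, (commute_fn (S := S) (s := s) (ind x)).2.eq,
      mul_assoc (fn S.Y s (ind x)), mul_pr hb, mul_smul_comm, smul_mul_assoc]

theorem Y_mul_eigen {E : R} {la lb : ℝ} (ha : S.A * E = la • E) (hb : S.B * E = lb • E) :
    S.Y * E = S.jointVal la lb • E := by
  simp only [Y, jointVal, add_mul, sub_mul, mul_assoc, smul_mul_assoc, one_mul, ha, hb,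
    mul_smul_comm, smul_smul]
  module

theorem joint_eq_zero (hann : Ann S.Y s) {x la oa lb ob : ℝ}
    (hc : fn S.Y s (ind x) * (S.A * S.B) = fn S.Y s (ind x) * (S.B * S.A))
    (ha : S.A * S.A = (la + oa) • S.A - (la * oa) • (1 : R))
    (hb : S.B * S.B = (lb + ob) • S.B - (lb * ob) • (1 : R))
    (hne : S.jointVal la lb ≠ x) : S.joint s x la oa lb ob = 0 := by
  obtain ⟨h1, h2⟩ := mul_joint hc ha hb
  have h3 : S.Y * S.joint s x la oa lb ob = x • S.joint s x la oa lb ob := by
    rw [joint, ← mul_assoc, ← mul_assoc, hann.mul_Y, ← smul_mul_assoc, ← smul_mul_assoc, ← fn_smul]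
    congr 2
    refine hann.fn_congr fun z _ => ?_
    simp only [ind]
    split
    · next e => rw [e]
    · simp
  rw [Y_mul_eigen h1 h2, ← sub_eq_zero, ← sub_smul] at h3
  exact (smul_eq_zero.1 h3).resolve_left (sub_ne_zero.2 hne)

theorem fn_ind_decomp {x la oa lb ob : ℝ} (h1 : la ≠ oa) (h2 : lb ≠ ob) :
    fn S.Y s (ind x) = S.joint s x la oa lb ob + S.joint s x la oa ob lb +
      (S.joint s x oa la lb ob + S.joint s x oa la ob lb) := by
  simp only [joint]
  rw [← mul_add, ← mul_add, pr_add h2, mul_one, mul_one, ← mul_add, pr_add h1, mul_one]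

/-- The weighted sum over all alternating words. -/
def eigSum (S : Quad R) (n : ℕ) (α β : ℝ) : R :=
  (1 + α • S.A) * ∑ k ∈ Finset.range n, alt (β • S.B) (α • S.A) k

theorem eigSum_swap {n : ℕ} {α β : ℝ}
    (hn : alt (α • S.A) (β • S.B) n = alt (β • S.B) (α • S.A) n) :
    S.eigSum n α β = S.swap.eigSum n β α := by
  show (1 + α • S.A) * _ = (1 + β • S.B) * ∑ k ∈ Finset.range n, alt (α • S.A) (β • S.B) k
  rw [add_mul, add_mul, one_mul, one_mul, Finset.mul_sum, Finset.mul_sum]
  have e1 : ∀ a b : R, ∑ k ∈ Finset.range n, a * alt b a k =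
      ∑ k ∈ Finset.range n, alt a b k + alt a b n - 1 := by
    intro a b
    have h := (Finset.sum_range_succ' (fun k => alt a b k) n).symm.trans
      (Finset.sum_range_succ (fun k => alt a b k) n)
    simp only [alt] at h
    rw [← h]; abel
  rw [e1, e1, hn]
  abel

theorem mul_eigSum {n : ℕ} {α β la : ℝ} (hα : α * S.q = la)
    (hla : la * la = (S.q - 1) * la + S.q) (hq : S.q ≠ 0) :
    S.A * S.eigSum n α β = la • S.eigSum n α β := by
  rw [eigSum, ← mul_assoc, ← smul_mul_assoc]
  congr 1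
  have h1 : la * α = 1 + α * (S.q - 1) := by
    apply mul_right_cancel₀ hq
    linear_combination (la + 1 - S.q) * hα + hla
  rw [mul_add, mul_one, mul_smul_comm, S.hA, smul_add, smul_smul, smul_smul, hα, smul_add,
    smul_smul, h1]
  module

end Quad

section trace

variable {Ω : Type*} [Fintype Ω] [DecidableEq Ω] {S : Quad (Matrix Ω Ω ℝ)} {s : Finset ℝ}

theorem Quad.trace_eigSum {n : ℕ} (hn : 1 ≤ n) {α β : ℝ}
    (htA : ∀ k, 1 ≤ k → k ≤ n → (alt S.A S.B k).trace = 0)
    (htB : ∀ k, 1 ≤ k → k ≤ n → (alt S.B S.A k).trace = 0) :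
    (S.eigSum n α β).trace = Fintype.card Ω := by
  rw [Quad.eigSum, add_mul, one_mul, Finset.mul_sum, trace_add, trace_sum, trace_sum]
  have h2 : ∀ k ∈ Finset.range n, (α • S.A * alt (β • S.B) (α • S.A) k).trace = 0 := by
    intro k hk
    rw [Finset.mem_range] at hk
    show (alt (α • S.A) (β • S.B) (k + 1)).trace = 0
    rw [alt_smul, trace_smul, htA _ (by omega) (by omega), smul_zero]
  rw [Finset.sum_eq_zero h2, add_zero, Finset.sum_eq_single 0]
  · simp [alt]
  · intro k hk h0
    rw [Finset.mem_range] at hk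
    rw [alt_smul, trace_smul, htB _ (by omega) (by omega), smul_zero]
  · intro h; simp at h; omega

theorem Quad.trace_joint (hann : Ann S.Y s) {n : ℕ} (hn : 1 ≤ n) {α β la oa lb ob : ℝ}
    (hx : S.jointVal la lb ∈ s)
    (hc : fn S.Y s (ind (S.jointVal la lb)) * (S.A * S.B) =
      fn S.Y s (ind (S.jointVal la lb)) * (S.B * S.A))
    (hla : la + oa = S.q - 1 ∧ la * oa = -S.q) (hlb : lb + ob = S.r - 1 ∧ lb * ob = -S.r)
    (hα : α * S.q = la) (hβ : β * S.r = lb) (hq : S.q ≠ 0) (hr : S.r ≠ 0) (h1 : la ≠ oa)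
    (h2 : lb ≠ ob) (hbraid : alt (α • S.A) (β • S.B) n = alt (β • S.B) (α • S.A) n)
    (htA : ∀ k, 1 ≤ k → k ≤ n → (alt S.A S.B k).trace = 0)
    (htB : ∀ k, 1 ≤ k → k ≤ n → (alt S.B S.A k).trace = 0) :
    (S.joint s (S.jointVal la lb) la oa lb ob).trace *
        ((1 + α * la) * ∑ k ∈ Finset.range n, alt (β * lb) (α * la) k) = Fintype.card Ω := by
  set x := S.jointVal la lb with hxdef
  have ha : S.A * S.A = (la + oa) • S.A - (la * oa) • (1 : Matrix Ω Ω ℝ) := by
    rw [hla.1, hla.2, S.hA]; module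
  have hb : S.B * S.B = (lb + ob) • S.B - (lb * ob) • (1 : Matrix Ω Ω ℝ) := by
    rw [hlb.1, hlb.2, S.hB]; module
  obtain ⟨hPA, hPB⟩ := Quad.mul_joint hc ha hb
  set Pr' := S.joint s x la oa lb ob with hPi
  set E := S.eigSum n α β with hE
  have hla2 : la * la = (S.q - 1) * la + S.q := by linear_combination la * hla.1 - hla.2
  have hlb2 : lb * lb = (S.r - 1) * lb + S.r := by linear_combination lb * hlb.1 - hlb.2
  have hEA : S.A * E = la • E := Quad.mul_eigSum hα hla2 hq
  have hEB : S.B * E = lb • E := by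
    rw [hE, Quad.eigSum_swap hbraid]
    exact Quad.mul_eigSum (S := S.swap) hβ hlb2 hr
  have hPE : Pr' * E = E := by
    rw [hPi, Quad.joint, mul_assoc, pr_mul_eigen h2 hEB, mul_assoc, pr_mul_eigen h1 hEA,
      fn_mul_eigen (Quad.Y_mul_eigen hEA hEB) _ (by rw [← hxdef]; exact hx)]
    simp [ind, hxdef]
  -- the projection commutes with `A` and `B`
  obtain ⟨hfA, hfB⟩ := Quad.commute_fn (S := S) (s := s) (ind x)
  have hcA : S.A * Pr' = Pr' * S.A := by
    have hsw : Pr' = fn S.Y s (ind x) * pr S.B lb ob * pr S.A la oa := Quad.pr_swap hc _ _ _ _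
    have e1 : Commute S.A (pr S.A la oa) :=
      ((Commute.refl S.A).sub_right (Commute.smul_right (Commute.one_right _) oa)).smul_right _
    have e2 : fn S.Y s (ind x) * pr S.B lb ob * S.A = fn S.Y s (ind x) * S.A * pr S.B lb ob := by
      simp only [pr, mul_smul_comm, smul_mul_assoc, mul_sub, sub_mul, mul_assoc, hc, mul_one,
        one_mul]
    calc S.A * Pr' = fn S.Y s (ind x) * S.A * pr S.B lb ob * pr S.A la oa := by
          rw [hsw, ← mul_assoc, ← mul_assoc, hfA.eq]
      _ = fn S.Y s (ind x) * pr S.B lb ob * (S.A * pr S.A la oa) := by rw [← e2, mul_assoc]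
      _ = Pr' * S.A := by rw [e1.eq, hsw]; simp only [mul_assoc]
  have hcB : S.B * Pr' = Pr' * S.B := by
    have e1 : Commute S.B (pr S.B lb ob) :=
      ((Commute.refl S.B).sub_right (Commute.smul_right (Commute.one_right _) ob)).smul_right _
    have e2 : fn S.Y s (ind x) * pr S.A la oa * S.B = fn S.Y s (ind x) * S.B * pr S.A la oa := by
      simp only [pr, mul_smul_comm, smul_mul_assoc, mul_sub, sub_mul, mul_assoc, hc, mul_one,
        one_mul]
    calc S.B * Pr' = fn S.Y s (ind x) * S.B * pr S.A la oa * pr S.B lb ob := by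
          rw [hPi, Quad.joint, ← mul_assoc, ← mul_assoc, hfB.eq]
      _ = fn S.Y s (ind x) * pr S.A la oa * (S.B * pr S.B lb ob) := by rw [← e2, mul_assoc]
      _ = Pr' * S.B := by rw [e1.eq, hPi, Quad.joint]; simp only [mul_assoc]
  have hcalt : ∀ (k : ℕ) (a b : Matrix Ω Ω ℝ), Commute a Pr' → Commute b Pr' →
      Commute (alt a b k) Pr' := by
    intro k
    induction k with
    | zero => intros; exact Commute.one_left _
    | succ k ih => intro a b h h'; exact h.mul_left (ih b a h' h)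
  have hcE : Commute E Pr' := by
    refine ((Commute.one_left _).add_left (Commute.smul_left hcA α)).mul_left ?_
    exact Commute.sum_left _ _ _ fun k _ => hcalt k _ _ (Commute.smul_left hcB β)
      (Commute.smul_left hcA α)
  have hEP : E * Pr' =
      ((1 + α * la) * ∑ k ∈ Finset.range n, alt (β * lb) (α * la) k) • Pr' := by
    have h3 : ∀ k, alt (β • S.B) (α • S.A) k * Pr' = alt (β * lb) (α * la) k • Pr' := fun k =>
      alt_mul_eigen k _ _ _ _ _ (by rw [smul_mul_assoc, hPB, smul_smul])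
        (by rw [smul_mul_assoc, hPA, smul_smul])
    rw [hE, Quad.eigSum, mul_assoc, Finset.sum_mul, Finset.sum_congr rfl fun k _ => h3 k,
      ← Finset.sum_smul, mul_smul_comm, add_mul, one_mul, smul_mul_assoc, hPA, smul_smul,
      smul_add, smul_smul, ← add_smul]
    congr 1
    ring
  have ht := congrArg Matrix.trace (hEP.symm.trans (hcE.eq.trans hPE))
  rw [trace_smul, smul_eq_mul, Quad.trace_eigSum hn htA htB] at ht
  linarith

end trace

end CfsgLib.FeitHigman
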