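import Mathlib
import Cfsg.Agent.Lib.FeitHigman.Joint

/-! The multiplicity formula for generalised polygons of even girth parameter. -/

set_option autoImplicit false

open Polynomial Matrix Real

namespace CfsgLib.FeitHigman

variable {Ω : Type*} [Fintype Ω] [DecidableEq Ω]

theorem transpose_aeval {Y : Matrix Ω Ω ℝ} (h : Yᵀ = Y) (g : ℝ[X]) :
    (aeval Y g)ᵀ = aeval Y g := by
  induction g using Polynomial.induction_on' with
  | add g k hg hk => rw [map_add, transpose_add, hg, hk]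
  | monomial n a => rw [aeval_monomial, ← Algebra.smul_def, transpose_smul, transpose_pow, h]

theorem eq_zero_of_transpose_mul {M : Matrix Ω Ω ℝ} (h : Mᵀ * M = 0) : M = 0 := by
  rw [← conjTranspose_eq_transpose_of_trivial] at h
  exact conjTranspose_mul_self_eq_zero.1 h

namespace Quad

variable {S : Quad (Matrix Ω Ω ℝ)}

theorem transpose_Y (hA : S.Aᵀ = S.A) (hB : S.Bᵀ = S.B) : S.Yᵀ = S.Y := by
  simp only [Y, transpose_add, transpose_sub, transpose_smul, transpose_mul, transpose_one, hA, hB]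
  abel

theorem trace_half {s : Finset ℝ} (hann : Ann S.Y s) {f : ℝ → ℝ}
    (hf : ∀ z ∈ s, (z - (S.q * S.r + 1)) * (z + (S.q + S.r)) = 0 → f z = 0) :
    2 * (fn S.Y s f * (S.A * S.B)).trace = (fn S.Y s f * S.Y).trace := by
  set C' := S.A * S.B - S.B * S.A with hC
  let g : ℝ → ℝ := fun z => f z / ((z - (S.q * S.r + 1)) * (z + (S.q + S.r)))
  have hfac : fn S.Y s f = fn S.Y s g * (C' * C') := by
    rw [hC, S.comm_sq, hann.aeval_eq (f := fun z => (z - (S.q * S.r + 1)) * (z + (S.q + S.r)))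
      (fun z _ => by simp), hann.fn_mul]
    refine hann.fn_congr fun z hz => ?_
    by_cases h0 : (z - (S.q * S.r + 1)) * (z + (S.q + S.r)) = 0
    · rw [hf z hz h0, h0, mul_zero]
    · exact (div_mul_cancel₀ _ h0).symm
  obtain ⟨hgA, hgB⟩ := commute_fn (S := S) (s := s) g
  obtain ⟨hfA, -⟩ := commute_fn (S := S) (s := s) f
  have hgC : Commute (fn S.Y s g) C' :=
    ((hgA.symm.mul_right hgB.symm).sub_right (hgB.symm.mul_right hgA.symm))
  have kill : ∀ e : Matrix Ω Ω ℝ, C' * e = -(e * C') → (fn S.Y s f * e).trace = 0 := by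
    intro e he
    have h1 : fn S.Y s f * e = -(fn S.Y s g * C' * e * C') := by
      rw [hfac]
      calc fn S.Y s g * (C' * C') * e = fn S.Y s g * C' * (C' * e) := by simp only [mul_assoc]
        _ = _ := by rw [he, mul_neg]; simp only [mul_assoc]
    have h2 : (fn S.Y s g * C' * e * C').trace = (fn S.Y s f * e).trace := by
      rw [trace_mul_comm, hfac, ← mul_assoc C', ← mul_assoc C', ← hgC.eq]
      simp only [mul_assoc]
    have h3 := congrArg Matrix.trace h1
    rw [trace_neg, h2] at h3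
    linarith
  have hC0 : (fn S.Y s f * C').trace = 0 := by
    rw [hC, mul_sub, trace_sub, ← mul_assoc, ← mul_assoc, ← hfA.eq, trace_mul_cycle, sub_eq_zero,
      trace_mul_comm (S.B * S.A), mul_assoc]
  have h := congrArg (fun M => (fn S.Y s f * M).trace) S.two_mul_AB
  simp only [mul_smul_comm, trace_smul, mul_add, trace_add, smul_eq_mul, ← hC, hC0,
    kill _ S.comm_anti, kill _ S.comm_anti', mul_zero, add_zero] at h
  exact h

theorem trace_pow' {s : Finset ℝ} (hann : Ann S.Y s) (Ex : ℝ → Prop)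
    (half : ∀ f : ℝ → ℝ, (∀ z ∈ s, Ex z → f z = 0) →
      2 * (fn S.Y s f * (S.A * S.B)).trace = (fn S.Y s f * S.Y).trace) :
    ∀ (k : ℕ) {f : ℝ → ℝ}, (∀ z ∈ s, Ex z → f z = 0) →
      2 * (fn S.Y s f * (S.A * S.B) ^ k).trace =
        (fn S.Y s (fun z => f z * (dick (S.q * S.r) k).eval z)).trace := by
  intro k
  induction k using Nat.twoStepInduction with
  | zero =>
    intro f _
    rw [hann.fn_congr (f := fun z => f z * (dick (S.q * S.r) 0).eval z) (g := fun z => 2 * f z)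
      fun z _ => by simp [dick, mul_comm], fn_smul]
    simp
  | one =>
    intro f hf
    rw [pow_one, half f hf]
    congr 1
    rw [← (show Commute S.Y (fn S.Y s f) from S.Y_comm _).eq, hann.mul_Y]
    exact hann.fn_congr fun z _ => by simp [dick, mul_comm]
  | more k ih0 ih1 =>
    intro f hf
    have e : (S.A * S.B) ^ (k + 2) =
        S.Y * (S.A * S.B) ^ (k + 1) - (S.q * S.r) • (S.A * S.B) ^ k := by
      calc (S.A * S.B) ^ (k + 2) = (S.A * S.B * (S.A * S.B)) * (S.A * S.B) ^ k := by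
            rw [pow_succ', pow_succ', ← mul_assoc]
        _ = _ := by rw [S.recur, sub_mul, smul_mul_assoc, one_mul, mul_assoc, ← pow_succ']
    have h0 := ih0 hf
    have h1 := ih1 (f := fun z => z * f z) (fun z hz h0 => by rw [hf z hz h0, mul_zero])
    have hfn : (fn S.Y s (fun z => f z * (dick (S.q * S.r) (k + 2)).eval z)).trace =
        (fn S.Y s (fun z => z * f z * (dick (S.q * S.r) (k + 1)).eval z)).trace -
          S.q * S.r * (fn S.Y s (fun z => f z * (dick (S.q * S.r) k).eval z)).trace := by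
      rw [← smul_eq_mul (S.q * S.r), ← trace_smul, ← fn_smul, ← trace_sub]
      congr 1
      rw [eq_sub_iff_add_eq, ← fn_add]
      exact hann.fn_congr fun z _ => by simp [dick]; ring
    rw [e, mul_sub, mul_smul_comm, trace_sub, trace_smul, ← mul_assoc,
      ← (show Commute S.Y (fn S.Y s f) from S.Y_comm _).eq, hann.mul_Y, smul_eq_mul, hfn]
    linear_combination h1 - S.q * S.r * h0

theorem trace_pow {s : Finset ℝ} (hann : Ann S.Y s) (k : ℕ) {f : ℝ → ℝ}
    (hf : ∀ z ∈ s, (z - (S.q * S.r + 1)) * (z + (S.q + S.r)) = 0 → f z = 0) :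
    2 * (fn S.Y s f * (S.A * S.B) ^ k).trace =
      (fn S.Y s (fun z => f z * (dick (S.q * S.r) k).eval z)).trace :=
  trace_pow' hann _ (fun _ h => trace_half hann h) k hf

end Quad

/-- The multiplicity formula. -/
theorem even_formula (S : Quad (Matrix Ω Ω ℝ)) (hA : S.Aᵀ = S.A) (hB : S.Bᵀ = S.B)
    (hq : 1 < S.q) (hr : 1 < S.r) {m : ℕ}
    (hbraid : (S.A * S.B) ^ (m + 1) = (S.B * S.A) ^ (m + 1))
    (htA : ∀ k, 1 ≤ k → k ≤ 2 * (m + 1) → (alt S.A S.B k).trace = 0)
    (htB : ∀ k, 1 ≤ k → k ≤ 2 * (m + 1) → (alt S.B S.A k).trace = 0)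
    {j : ℕ} (hj1 : 1 ≤ j) (hj : j ≤ m) :
    ∃ μ : ℕ, ((m + 1 : ℕ) : ℝ) * μ *
        ((S.q * S.r + 1 - 2 * √(S.q * S.r) * cos (j * (π / (m + 1 : ℕ)))) *
          (S.q + S.r + 2 * √(S.q * S.r) * cos (j * (π / (m + 1 : ℕ))))) =
      Fintype.card Ω * (4 * (S.q * S.r) - (2 * √(S.q * S.r) * cos (j * (π / (m + 1 : ℕ)))) ^ 2) := by
  classical
  have hq0 : 0 < S.q := by linarith
  have hr0 : 0 < S.r := by linarith
  set p := S.q * S.r with hp
  have hp1 : 1 < p := by rw [hp]; nlinarith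
  set u := √p with hu
  have hu2 : u ^ 2 = p := sq_sqrt (by linarith)
  have hu0 : 0 < u := sqrt_pos.2 (by linarith)
  set δ := π / (m + 1 : ℕ) with hδ
  have hδ0 : 0 < δ := by rw [hδ]; positivity
  have hdδ : ((m + 1 : ℕ) : ℝ) * δ = π := by rw [hδ]; field_simp
  have hroot : ∀ i : ℕ, 1 ≤ i → i ≤ m → 0 < i * δ ∧ i * δ < π := by
    intro i h1 h2
    refine ⟨mul_pos (by exact_mod_cast h1) hδ0, ?_⟩
    calc (i : ℝ) * δ ≤ m * δ := mul_le_mul_of_nonneg_right (by exact_mod_cast h2) hδ0.le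
      _ < π := by rw [← hdδ]; push_cast; nlinarith
  have hrange : ∀ i : ℕ, 1 ≤ i → i ≤ m →
      -(2 * u) < 2 * u * cos (i * δ) ∧ 2 * u * cos (i * δ) < 2 * u := by
    intro i h1 h2
    obtain ⟨a1, a2⟩ := hroot i h1 h2
    have c1 : cos (i * δ) < 1 := by
      simpa using cos_lt_cos_of_nonneg_of_le_pi le_rfl a2.le a1
    have c2 : -1 < cos (i * δ) := by
      simpa using cos_lt_cos_of_nonneg_of_le_pi a1.le le_rfl a2
    constructor <;> nlinarith
  set A0 := p + 1 with hA0
  set B0 := S.q + S.r with hB0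
  have hAu : 2 * u < A0 := by rw [hA0, ← hu2]; nlinarith [sq_nonneg (u - 1), mul_self_pos.2 (show u - 1 ≠ 0 by
    intro e; rw [sub_eq_zero] at e; rw [e] at hu2; norm_num at hu2; linarith)]
  have hBu : 2 * u ≤ B0 := by
    have : (2 * u) ^ 2 ≤ B0 ^ 2 := by
      rw [hB0, mul_pow, hu2, hp]; nlinarith [sq_nonneg (S.q - S.r)]
    exact pow_le_pow_iff_left₀ (by positivity) (by positivity) two_ne_zero |>.1 this
  let T : Finset ℝ := (Finset.Icc 1 m).image fun i : ℕ => 2 * u * cos (i * δ)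
  set s : Finset ℝ := insert A0 (insert (-B0) T) with hs
  have hT : ∀ z ∈ T, -(2 * u) < z ∧ z < 2 * u := by
    intro z hz
    obtain ⟨i, hi, rfl⟩ := Finset.mem_image.1 hz
    rw [Finset.mem_Icc] at hi
    exact hrange i hi.1 hi.2
  have hTcard : T.card = m := by
    rw [Finset.card_image_of_injOn, Nat.card_Icc, Nat.add_sub_cancel]
    intro a ha b hb hab
    simp only [Finset.coe_Icc, Set.mem_Icc] at ha hb
    obtain ⟨a1, a2⟩ := hroot a ha.1 ha.2
    obtain ⟨b1, b2⟩ := hroot b hb.1 hb.2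
    have h := injOn_cos ⟨a1.le, a2.le⟩ ⟨b1.le, b2.le⟩ (mul_left_cancel₀ (by positivity) hab)
    exact_mod_cast mul_right_cancel₀ hδ0.ne' h
  have hAT : A0 ∉ T := fun h => by linarith [(hT _ h).2]
  have hBT : -B0 ∉ T := fun h => by linarith [(hT _ h).1]
  have hAB : A0 ≠ -B0 := fun h => by linarith
  have hscard : s.card = m + 2 := by
    rw [hs, Finset.card_insert_of_notMem (by simp [hAB, hAT]), Finset.card_insert_of_notMem hBT,
      hTcard]
  obtain ⟨hmon, hdeg, -⟩ := sec_coeff p m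
  have hmon2 : ((X - C A0) * (X + C B0)).Monic := (monic_X_sub_C A0).mul (monic_X_add_C B0)
  have hann : Ann S.Y s := by
    refine ann_of_monic (hmon.mul hmon2) ?_ ?_ ?_
    · rw [hmon.natDegree_mul hmon2, (monic_X_sub_C A0).natDegree_mul (monic_X_add_C B0), hdeg,
        natDegree_X_sub_C, natDegree_X_add_C, hscard]
    · intro z hz
      rw [hs, Finset.mem_insert, Finset.mem_insert] at hz
      rcases hz with rfl | rfl | hz
      · simp
      · simp
      · obtain ⟨i, hi, rfl⟩ := Finset.mem_image.1 hz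
        rw [Finset.mem_Icc] at hi
        obtain ⟨a1, a2⟩ := hroot i hi.1 hi.2
        have h := sec_eval hu2 (θ := (i : ℝ) * δ) (m + 1)
        have e : ((m + 1 : ℕ) : ℝ) * (i * δ) = i * π := by rw [← hdδ]; ring
        rw [e, sin_nat_mul_pi, mul_zero] at h
        have hs0 : u * sin (i * δ) ≠ 0 := (mul_pos hu0 (sin_pos_of_pos_of_lt_pi a1 a2)).ne'
        rw [eval_mul, (mul_eq_zero.1 h).resolve_right hs0, zero_mul]
    · rw [map_mul, hA0, hB0, hp, ← S.comm_sq, ← mul_assoc, S.annihilate hbraid, zero_mul]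
  -- on the two exceptional nodes the operators commute
  have hcomm : ∀ x ∈ ({A0, -B0} : Finset ℝ),
      fn S.Y s (ind x) * (S.A * S.B) = fn S.Y s (ind x) * (S.B * S.A) := by
    intro x hx
    rw [← sub_eq_zero, ← mul_sub]
    apply eq_zero_of_transpose_mul
    obtain ⟨hfA, hfB⟩ := Quad.commute_fn (S := S) (s := s) (ind x)
    set C' := S.A * S.B - S.B * S.A with hC
    have hfC : Commute (fn S.Y s (ind x)) C' :=
      ((hfA.symm.mul_right hfB.symm).sub_right (hfB.symm.mul_right hfA.symm))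
    have hCT : C'ᵀ = -C' := by
      rw [hC, transpose_sub, transpose_mul, transpose_mul, hA, hB, neg_sub]
    rw [transpose_mul, show (fn S.Y s (ind x))ᵀ = fn S.Y s (ind x) from
      transpose_aeval (Quad.transpose_Y hA hB) _, hCT, neg_mul, neg_mul, neg_eq_zero, ← hfC.eq,
      mul_assoc, ← mul_assoc C', ← hfC.eq, mul_assoc (fn S.Y s (ind x)) C', ← mul_assoc, hC,
      S.comm_sq, hann.aeval_eq (f := fun z => (z - A0) * (z + B0)) (fun z _ => by
        simp [hA0, hB0, hp]), hann.fn_mul, hann.fn_mul,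
      hann.fn_congr (g := fun _ => 0 * (1:ℝ)) fun z _ => ?_, fn_smul, zero_smul]
    by_cases hzx : z = x
    · subst hzx
      simp only [Finset.mem_insert, Finset.mem_singleton] at hx
      rcases hx with rfl | rfl <;> simp
    · simp [ind, hzx]
  -- the linear functional
  set θ := (j : ℝ) * δ with hθ
  set y := 2 * u * cos θ with hy
  let c : ℕ → ℝ := fun k => cos ((k : ℕ) * θ) / u ^ k
  let L : Matrix Ω Ω ℝ → ℝ := fun M => M.trace +
    2 * ∑ k ∈ Finset.range m, c (k + 1) * (M * (S.A * S.B) ^ (k + 1)).trace +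
      c (m + 1) * (M * (S.A * S.B) ^ (m + 1)).trace
  have hLadd : ∀ M M', L (M + M') = L M + L M' := by
    intro M M'
    simp only [L, add_mul, trace_add, mul_add, Finset.sum_add_distrib]
    ring
  have hL1 : L 1 = Fintype.card Ω := by
    have hz : ∀ k, 1 ≤ k → k ≤ m + 1 → ((1 : Matrix Ω Ω ℝ) * (S.A * S.B) ^ k).trace = 0 := by
      intro k h1 h2
      rw [one_mul, ← alt_two_mul]
      exact htA _ (by omega) (by omega)
    show (1 : Matrix Ω Ω ℝ).trace + _ + _ = _
    rw [hz (m + 1) (by omega) le_rfl, Finset.sum_eq_zero fun k hk => ?_]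
    · simp
    · rw [hz (k + 1) (by omega) (by rw [Finset.mem_range] at hk; omega), mul_zero]
  have hLjoint : ∀ la oa lb ob, S.A * S.joint s (S.jointVal la lb) la oa lb ob =
      la • S.joint s (S.jointVal la lb) la oa lb ob →
      S.B * S.joint s (S.jointVal la lb) la oa lb ob =
      lb • S.joint s (S.jointVal la lb) la oa lb ob →
      L (S.joint s (S.jointVal la lb) la oa lb ob) =
        (S.joint s (S.jointVal la lb) la oa lb ob).trace * evenSum m (la * lb / u) θ := by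
    intro la oa lb ob h1 h2
    set M := S.joint s (S.jointVal la lb) la oa lb ob
    have hk : ∀ k : ℕ, (M * (S.A * S.B) ^ k).trace = (la * lb) ^ k * M.trace := by
      intro k
      rw [trace_mul_comm, ← alt_two_mul, alt_mul_eigen _ _ _ _ _ _ h1 h2, alt_two_mul, trace_smul,
        smul_eq_mul]
    simp only [L, hk, evenSum, cosPart, c, div_pow]
    rw [mul_add, mul_add, mul_one, Finset.mul_sum, Finset.mul_sum, Finset.mul_sum]
    congr 1
    · congr 1
      exact Finset.sum_congr rfl fun k _ => by ring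
    · ring
  let rest : ℝ → ℝ := fun z => if z = A0 ∨ z = -B0 then 0 else 1
  have hLrest : L (fn S.Y s rest) = ((m + 1 : ℕ) : ℝ) * (fn S.Y s (ind y)).trace := by
    have hv : ∀ z ∈ s, (z - (S.q * S.r + 1)) * (z + (S.q + S.r)) = 0 → rest z = 0 := by
      intro z _ hz
      rw [mul_eq_zero, sub_eq_zero, add_eq_zero_iff_eq_neg] at hz
      refine if_pos ?_
      rw [hA0, hB0, hp]
      exact hz
    have hk : ∀ k, (fn S.Y s rest * (S.A * S.B) ^ k).trace =
        (fn S.Y s (fun z => 2⁻¹ * (rest z * (dick p k).eval z))).trace := by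
      intro k
      rw [fn_smul, trace_smul, hp, ← Quad.trace_pow hann k hv, smul_eq_mul, ← mul_assoc,
        inv_mul_cancel₀ two_ne_zero, one_mul]
    simp only [L]
    simp only [hk]
    simp only [← smul_eq_mul (c _), ← trace_smul, ← fn_smul, ← trace_sum]
    rw [← smul_eq_mul (2 : ℝ), ← trace_smul, ← trace_add, ← trace_add, ← smul_eq_mul ((m+1:ℕ) : ℝ),
      ← trace_smul, ← fn_smul]
    congr 1
    simp only [fn, ← map_sum, ← map_add, ← map_smul]
    refine hann.aeval_eq fun z hz => ?_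
    simp only [eval_add, eval_smul, eval_finsetSum, eval_interp _ hz, smul_eq_mul]
    rw [hs, Finset.mem_insert, Finset.mem_insert] at hz
    have hyT : y ∈ T := Finset.mem_image.2 ⟨j, Finset.mem_Icc.2 ⟨hj1, hj⟩, rfl⟩
    rcases hz with rfl | rfl | hz
    · have : A0 ≠ y := fun e => hAT (e ▸ hyT)
      simp [rest, ind, this]
    · have : -B0 ≠ y := fun e => hBT (e ▸ hyT)
      simp [rest, ind, this]
    · have hz1 : rest z = 1 := by
        have : z ≠ A0 ∧ z ≠ -B0 := ⟨fun e => hAT (e ▸ hz), fun e => hBT (e ▸ hz)⟩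
        simp [rest, this]
      obtain ⟨i, hi, rfl⟩ := Finset.mem_image.1 hz
      rw [Finset.mem_Icc] at hi
      simp only [Pi.add_apply, Pi.smul_apply, Finset.sum_apply, smul_eq_mul, hz1, one_mul, c, dick_eval hu2]
      have e1 : ∀ k : ℕ, cos ((k : ℝ) * θ) / u ^ k * (2⁻¹ * (2 * u ^ k * cos (k * (i * δ)))) =
          cos (k * θ) * cos (k * (i * δ)) := by
        intro k
        field_simp
      simp only [e1]
      rw [cosPart_mul, cos_mul_cos (m + 1)]
      have e2 : ∀ a b : ℝ, (cosPart m 1 a + cosPart m 1 b) / 2 +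
          (cos ((m + 1 : ℕ) * a) + cos ((m + 1 : ℕ) * b)) / 2 =
          (evenSum m 1 a + evenSum m 1 b) / 2 := by
        intro a b
        simp only [evenSum, one_pow, one_mul]
        ring
      rw [e2, show θ + i * δ = ((j + i : ℕ) : ℤ) * δ by rw [hθ]; push_cast; ring,
        show θ - i * δ = ((j : ℤ) - i : ℤ) * δ by rw [hθ]; push_cast; ring,
        evenSum_one (by omega) (by omega), evenSum_one (by omega) (by omega), if_neg (by omega)]
      by_cases hij : j = i
      · subst hij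
        simp [ind, hy, hθ]
      · rw [if_neg (by omega), ind, if_neg]
        · simp
        · intro e
          obtain ⟨a1, a2⟩ := hroot i hi.1 hi.2
          obtain ⟨b1, b2⟩ := hroot j hj1 hj
          have h := injOn_cos ⟨a1.le, a2.le⟩ ⟨b1.le, b2.le⟩
            (mul_left_cancel₀ (by positivity) e)
          exact hij (by exact_mod_cast (mul_right_cancel₀ hδ0.ne' h).symm)
  -- the four joint projections
  have ha : S.A * S.A = (S.q + -1) • S.A - (S.q * -1) • (1 : Matrix Ω Ω ℝ) := by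
    rw [S.hA]; module
  have ha' : S.A * S.A = (-1 + S.q) • S.A - (-1 * S.q) • (1 : Matrix Ω Ω ℝ) := by
    rw [S.hA]; module
  have hb : S.B * S.B = (S.r + -1) • S.B - (S.r * -1) • (1 : Matrix Ω Ω ℝ) := by
    rw [S.hB]; module
  have hb' : S.B * S.B = (-1 + S.r) • S.B - (-1 * S.r) • (1 : Matrix Ω Ω ℝ) := by
    rw [S.hB]; module
  have v1 : S.jointVal S.q S.r = A0 := by simp only [Quad.jointVal, hA0, hp]; ring
  have v2 : S.jointVal (-1) (-1) = A0 := by simp only [Quad.jointVal, hA0, hp]; ring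
  have v3 : S.jointVal S.q (-1) = -B0 := by simp only [Quad.jointVal, hB0]; ring
  have v4 : S.jointVal (-1) S.r = -B0 := by simp only [Quad.jointVal, hB0]; ring
  have cA := hcomm A0 (by simp)
  have cB := hcomm (-B0) (by simp)
  have sA : A0 ∈ s := by simp [hs]
  have sB : -B0 ∈ s := by simp [hs]
  have nq : S.q ≠ -1 := by linarith
  have nr : S.r ≠ -1 := by linarith
  have hbr : ∀ α β : ℝ, alt (α • S.A) (β • S.B) (2 * (m + 1)) =
      alt (β • S.B) (α • S.A) (2 * (m + 1)) := by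
    intro α β
    rw [alt_smul, alt_smul, alt_two_mul, alt_two_mul, alt_two_mul, alt_two_mul, hbraid,
      mul_comm α]
  have ft := fun α β la oa lb ob => Quad.trace_joint (S := S) hann (n := 2 * (m + 1)) (by omega)
    (α := α) (β := β) (la := la) (oa := oa) (lb := lb) (ob := ob)
  have t1 := ft 1 1 S.q (-1) S.r (-1) (v1 ▸ sA) (v1 ▸ cA) ⟨by ring, by ring⟩ ⟨by ring, by ring⟩
    (one_mul _) (one_mul _) hq0.ne' hr0.ne' nq nr (hbr _ _) htA htB
  have t2 := ft (-1 / S.q) (-1 / S.r) (-1) S.q (-1) S.r (v2 ▸ sA) (v2 ▸ cA) ⟨by ring, by ring⟩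
    ⟨by ring, by ring⟩ (by field_simp) (by field_simp) hq0.ne' hr0.ne' nq.symm nr.symm (hbr _ _)
    htA htB
  have t3 := ft 1 (-1 / S.r) S.q (-1) (-1) S.r (v3 ▸ sB) (v3 ▸ cB) ⟨by ring, by ring⟩
    ⟨by ring, by ring⟩ (one_mul _) (by field_simp) hq0.ne' hr0.ne' nq nr.symm (hbr _ _) htA htB
  have t4 := ft (-1 / S.q) 1 (-1) S.q S.r (-1) (v4 ▸ sB) (v4 ▸ cB) ⟨by ring, by ring⟩
    ⟨by ring, by ring⟩ (by field_simp) (one_mul _) hq0.ne' hr0.ne' nq.symm nr (hbr _ _) htA htB
  rw [sum_alt_two_mul] at t1 t2 t3 t4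
  have dA : fn S.Y s (ind A0) =
      S.joint s A0 S.q (-1) S.r (-1) + S.joint s A0 (-1) S.q (-1) S.r := by
    rw [Quad.fn_ind_decomp (x := A0) nq nr,
      Quad.joint_eq_zero hann (x := A0) cA ha hb' (by rw [v3]; exact hAB.symm),
      Quad.joint_eq_zero hann (x := A0) cA ha' hb (by rw [v4]; exact hAB.symm), add_zero, zero_add]
  have dB : fn S.Y s (ind (-B0)) =
      S.joint s (-B0) S.q (-1) (-1) S.r + S.joint s (-B0) (-1) S.q S.r (-1) := by
    rw [Quad.fn_ind_decomp (x := -B0) nq nr,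
      Quad.joint_eq_zero hann (x := -B0) cB ha hb (by rw [v1]; exact hAB),
      Quad.joint_eq_zero hann (x := -B0) cB ha' hb' (by rw [v2]; exact hAB), add_zero, zero_add]
  have dec : (1 : Matrix Ω Ω ℝ) =
      fn S.Y s rest + (fn S.Y s (ind A0) + fn S.Y s (ind (-B0))) := by
    rw [← fn_add, ← fn_add, ← hann.fn_one]
    refine hann.fn_congr fun z _ => ?_
    by_cases h1 : z = A0
    · subst h1; simp [rest, ind, hAB]
    · by_cases h2 : z = -B0
      · subst h2; simp [rest, ind, hAB.symm]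
      · simp [rest, ind, h1, h2]
  have key := congrArg L dec
  obtain ⟨j1, j1'⟩ := Quad.mul_joint (x := S.jointVal S.q S.r) (v1 ▸ cA) ha hb
  obtain ⟨j2, j2'⟩ := Quad.mul_joint (x := S.jointVal (-1) (-1)) (v2 ▸ cA) ha' hb'
  obtain ⟨j3, j3'⟩ := Quad.mul_joint (x := S.jointVal S.q (-1)) (v3 ▸ cB) ha hb'
  obtain ⟨j4, j4'⟩ := Quad.mul_joint (x := S.jointVal (-1) S.r) (v4 ▸ cB) ha' hb
  have l1 := hLjoint _ _ _ _ j1 j1'
  have l2 := hLjoint _ _ _ _ j2 j2'
  have l3 := hLjoint _ _ _ _ j3 j3'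
  have l4 := hLjoint _ _ _ _ j4 j4'
  rw [v1] at l1 t1
  rw [v2] at l2 t2
  rw [v3] at l3 t3
  rw [v4] at l4 t4
  rw [hLadd, hLadd, hL1, hLrest, dA, dB, hLadd, hLadd, l1, l2, l3, l4] at key
  obtain ⟨μ, hμ⟩ := trace_idem_nat (E := fn S.Y s (ind y)) (by
    rw [hann.fn_mul]; exact hann.fn_congr fun z _ => by simp [ind])
  rw [hμ] at key
  refine ⟨μ, ?_⟩
  set a0 := (S.joint s A0 S.q (-1) S.r (-1)).trace
  set a := (S.joint s A0 (-1) S.q (-1) S.r).trace
  set b := (S.joint s (-B0) S.q (-1) (-1) S.r).trace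
  set b' := (S.joint s (-B0) (-1) S.q S.r (-1)).trace
  set N : ℝ := ((Fintype.card Ω : ℕ) : ℝ)
  set G1 := ∑ k ∈ Finset.range (m + 1), p ^ k with hG1
  set G2 := ∑ k ∈ Finset.range (m + 1), (S.q / S.r) ^ k with hG2
  have rev : ∀ x : ℝ, x ≠ 0 → (∑ k ∈ Finset.range (m + 1), (1 / x) ^ k) * x ^ m =
      ∑ k ∈ Finset.range (m + 1), x ^ k := by
    intro x hx
    rw [Finset.sum_mul, ← Finset.sum_range_reflect (fun k => x ^ k) (m + 1)]
    refine Finset.sum_congr rfl fun k hk => ?_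
    rw [Finset.mem_range] at hk
    rw [one_div, inv_pow, show m + 1 - 1 - k = m - k by omega, pow_sub₀ _ hx (by omega), mul_comm]
  have T1 : a0 * ((1 + S.q) * (1 + S.r) * G1) = N := by
    rw [← t1, hG1]; simp only [one_mul, mul_comm S.r S.q, ← hp]; ring
  have T2 : a * ((1 + S.q) * (1 + S.r) * G1) = N * p ^ (m + 1) := by
    rw [← t2, hG1, ← rev p (by linarith)]
    have e : (-1 / S.r * -1) * (-1 / S.q * -1) = 1 / p := by rw [hp]; field_simp
    rw [e, pow_succ, hp]
    field_simp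
    ring
  have T3 : b * ((1 + S.q) * (1 + S.r) * G2) = N * S.r := by
    rw [← t3, hG2]
    have e : (-1 / S.r * -1) * (1 * S.q) = S.q / S.r := by field_simp
    rw [e]
    field_simp
    ring
  have T4 : b' * ((1 + S.q) * (1 + S.r) * G2) = N * S.r * (S.q / S.r) ^ (m + 1) := by
    rw [← t4, hG2, ← rev (S.q / S.r) (by positivity)]
    have e : (1 * S.r) * (-1 / S.q * -1) = 1 / (S.q / S.r) := by field_simp
    rw [e, pow_succ]
    field_simp
    ring
  have hs0 : sin ((m + 1 : ℕ) * θ) = 0 := by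
    rw [hθ, ← mul_assoc, mul_comm ((m + 1 : ℕ) : ℝ) (j : ℝ), mul_assoc, hdδ]
    exact sin_nat_mul_pi j
  set ε := cos ((m + 1 : ℕ) * θ)
  have hur : u * u = p := by rw [← sq]; exact hu2
  have D1 : (A0 - y) * evenSum m (S.q * S.r / u) θ = (1 - p) * (1 - ε * u ^ (m + 1)) := by
    rw [← hp, show p / u = u by rw [div_eq_iff hu0.ne', hur], hA0, hy, ← hu2]
    linear_combination evenSum_eq (w := u) hs0
  have D2 : (A0 - y) * evenSum m ((-1) * (-1) / u) θ = (p - 1) * (1 - ε * (1 / u) ^ (m + 1)) := by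
    rw [neg_one_mul, neg_neg]
    have h := evenSum_eq (w := 1 / u) hs0
    have e1 : (1 - 2 * (1 / u) * cos θ + (1 / u) ^ 2) * p = A0 - y := by
      rw [hA0, hy, ← hu2]; field_simp; ring
    have e2 : (1 - (1 / u) ^ 2) * p = p - 1 := by rw [← hu2]; field_simp
    rw [← e1, ← e2]
    linear_combination p * h
  have D3 : (B0 + y) * evenSum m (S.q * -1 / u) θ =
      (S.r - S.q) * (1 - ε * (S.q * -1 / u) ^ (m + 1)) := by
    have h := evenSum_eq (w := S.q * -1 / u) hs0
    have e1 : (1 - 2 * (S.q * -1 / u) * cos θ + (S.q * -1 / u) ^ 2) * S.r = B0 + y := by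
      rw [hB0, hy]
      field_simp
      linear_combination (-S.q - 2 * u * cos θ) * (hu2.trans hp)
    have e2 : (1 - (S.q * -1 / u) ^ 2) * S.r = S.r - S.q := by
      rw [div_pow, hu2, hp]; field_simp
    rw [← e1, ← e2]
    linear_combination S.r * h
  have D4 : (B0 + y) * evenSum m (-1 * S.r / u) θ =
      (S.q - S.r) * (1 - ε * (-1 * S.r / u) ^ (m + 1)) := by
    have h := evenSum_eq (w := -1 * S.r / u) hs0
    have e1 : (1 - 2 * (-1 * S.r / u) * cos θ + (-1 * S.r / u) ^ 2) * S.q = B0 + y := by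
      rw [hB0, hy]
      field_simp
      linear_combination (-S.r - 2 * u * cos θ) * (hu2.trans hp)
    have e2 : (1 - (-1 * S.r / u) ^ 2) * S.q = S.q - S.r := by
      rw [div_pow, hu2, hp]; field_simp
    rw [← e1, ← e2]
    linear_combination S.q * h
  set M := (1 + S.q) * (1 + S.r) with hM
  have hM0 : 0 < M := by positivity
  have hG1p : 0 < G1 := Finset.sum_pos (fun k _ => by positivity) (by simp)
  have hG2p : 0 < G2 := Finset.sum_pos (fun k _ => by positivity) (by simp)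
  have hgeo1 : G1 * (p - 1) = p ^ (m + 1) - 1 := geom_sum_mul p (m + 1)
  have hgeo2 : G2 * (S.q - S.r) = ((S.q / S.r) ^ (m + 1) - 1) * S.r := by
    have : (S.q / S.r - 1) * S.r = S.q - S.r := by field_simp
    rw [← this, ← mul_assoc, geom_sum_mul]
  -- the first pair
  have P1 : M * ((A0 - y) * (a0 * evenSum m (S.q * S.r / u) θ +
      a * evenSum m ((-1) * (-1) / u) θ)) = N * (p - 1) ^ 2 := by
    apply mul_right_cancel₀ hG1p.ne'
    have hz : p ^ (m + 1) * (1 / u) ^ (m + 1) = u ^ (m + 1) := by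
      rw [← mul_pow, ← hu2]; congr 1; field_simp
    linear_combination (M * G1 * a0) * D1 + (M * G1 * a) * D2 +
      ((1 - p) * (1 - ε * u ^ (m + 1))) * T1 + ((p - 1) * (1 - ε * (1 / u) ^ (m + 1))) * T2 -
      (N * (p - 1)) * hgeo1 - (N * (p - 1) * ε) * hz
  have P2 : M * ((B0 + y) * (b * evenSum m (S.q * -1 / u) θ +
      b' * evenSum m (-1 * S.r / u) θ)) = N * (S.r - S.q) ^ 2 := by
    apply mul_right_cancel₀ hG2p.ne'
    have hz : (S.q / S.r) ^ (m + 1) * (-1 * S.r / u) ^ (m + 1) =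
        (S.q * -1 / u) ^ (m + 1) := by
      rw [← mul_pow]; congr 1; field_simp
    linear_combination (M * G2 * b) * D3 + (M * G2 * b') * D4 +
      ((S.r - S.q) * (1 - ε * (S.q * -1 / u) ^ (m + 1))) * T3 +
      ((S.q - S.r) * (1 - ε * (-1 * S.r / u) ^ (m + 1))) * T4 -
      (N * (S.q - S.r)) * hgeo2 - (N * S.r * (S.q - S.r) * ε) * hz
  have hMAB : M = A0 + B0 := by rw [hM, hA0, hB0, hp]; ring
  apply mul_left_cancel₀ hM0.ne'
  have e4 : (4 * p - y ^ 2) * M = M * (A0 - y) * (B0 + y) - (p - 1) ^ 2 * (B0 + y) -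
      (S.r - S.q) ^ 2 * (A0 - y) := by
    rw [hMAB, hA0, hB0, hp]; ring
  linear_combination -(M * (A0 - y) * (B0 + y)) * key - (B0 + y) * P1 - (A0 - y) * P2 - N * e4

end CfsgLib.FeitHigman
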