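import Mathlib
import Cfsg.Agent.Lib.BN.Basic
import Cfsg.Agent.Lib.FeitHigman.Basic

/-! Hecke operators of a Tits system of rank two. -/

set_option autoImplicit false

open scoped Matrix

namespace CfsgLib.FeitHigman

section dihedral

variable {W : Type*} [Group W] {a b : W}

theorem orderOf_mul_comm' (ha : a * a = 1) (hb : b * b = 1) :
    orderOf (b * a) = orderOf (a * b) := by
  rw [← orderOf_inv (a * b), mul_inv_rev, inv_eq_of_mul_eq_one_right ha,
    inv_eq_of_mul_eq_one_right hb]

theorem alt_ne_one (ha : a * a = 1) (hb : b * b = 1) (ha1 : a ≠ 1) (hb1 : b ≠ 1) {m : ℕ}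
    (h1 : 1 ≤ m) (h2 : m < 2 * orderOf (a * b)) : alt a b m ≠ 1 := by
  intro h
  rcases Nat.even_or_odd' m with ⟨j, rfl | rfl⟩
  · rw [alt_two_mul] at h
    have := Nat.le_of_dvd (by omega) (orderOf_dvd_of_pow_eq_one h)
    omega
  · rw [alt_two_mul_succ] at h
    rcases Nat.eq_zero_or_pos j with rfl | hj
    · exact ha1 (by simpa using h)
    have e : (b * a) ^ j = a := by
      have h' := eq_inv_of_mul_eq_one_right h
      rwa [inv_eq_of_mul_eq_one_right ha] at h'
    have hc : a * (b * a) = (b * a) * a := by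
      have h' := (Commute.pow_self (b * a) j).eq
      rwa [e] at h'
    rw [mul_assoc b a a, ha, mul_one, ← mul_assoc] at hc
    have h3 : (a * b) ^ 2 = 1 := by rw [sq, ← mul_assoc, hc, hb]
    have := Nat.le_of_dvd (by norm_num) (orderOf_dvd_of_pow_eq_one h3)
    obtain rfl : j = 1 := by omega
    rw [pow_one, ← mul_assoc, hc] at h
    exact hb1 h

theorem alt_ne_alt : ∀ (k l : ℕ) (a b : W), a * a = 1 → b * b = 1 → a ≠ 1 → b ≠ 1 → 0 < k + l →
    k + l < 2 * orderOf (a * b) → alt a b k ≠ alt b a l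
  | 0, l, a, b, ha, hb, ha1, hb1, h1, h2 => fun h =>
    alt_ne_one hb ha hb1 ha1 (m := l) (by omega) (by rw [orderOf_mul_comm' ha hb]; omega) h.symm
  | k + 1, l, a, b, ha, hb, ha1, hb1, _, h2 => fun h => by
    have e : alt b a k = alt a b (l + 1) := by
      show alt b a k = a * alt b a l
      rw [← h]
      show alt b a k = a * (a * alt b a k)
      rw [← mul_assoc, ha, one_mul]
    exact alt_ne_alt k (l + 1) b a hb ha hb1 ha1 (by omega)
      (by rw [orderOf_mul_comm' ha hb]; omega) e

theorem alt_injective : ∀ (l k : ℕ) (a b : W), a * a = 1 → b * b = 1 → a ≠ 1 → b ≠ 1 → l < k →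
    k < 2 * orderOf (a * b) → alt a b k ≠ alt a b l
  | 0, k, a, b, ha, hb, ha1, hb1, h1, h2 => fun h => alt_ne_one ha hb ha1 hb1 (by omega) h2 h
  | l + 1, 0, _, _, _, _, _, _, h1, _ => absurd h1 (by omega)
  | l + 1, k + 1, a, b, ha, hb, ha1, hb1, h1, h2 => fun h =>
    alt_injective l k b a hb ha hb1 ha1 (by omega) (by rw [orderOf_mul_comm' ha hb]; omega)
      (mul_left_cancel (show a * alt b a k = a * alt b a l from h))

end dihedral

open CfsgLib.BN

variable {G : Type*} [Group G] (P : Cfsg.BNPair G)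

local notation "ℓ" => wlen (sgen P)

theorem prod_altList (i j : P.S) : ∀ k : ℕ,
    ((ExchSys.altList i j k).map (sgen P)).prod = alt (sgen P i) (sgen P j) k
  | 0 => rfl
  | k + 1 => by
    show sgen P i * ((ExchSys.altList j i k).map (sgen P)).prod = sgen P i * _
    rw [prod_altList j i k]

theorem alt_braid (i j : P.S) :
    alt (sgen P i) (sgen P j) (orderOf (sgen P i * sgen P j)) =
      alt (sgen P j) (sgen P i) (orderOf (sgen P i * sgen P j)) := by
  have h := ExchSys.altList_prod_div (sgen P) (sgen_sq P) (orderOf (sgen P i * sgen P j)) i j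
  rw [pow_orderOf_eq_one, prod_altList, prod_altList] at h
  exact mul_inv_eq_one.1 h

theorem wlen_alt {i j : P.S} (hij : i ≠ j) (hS : ∀ x : P.S, x = i ∨ x = j) {k : ℕ}
    (hk : k ≤ orderOf (sgen P i * sgen P j)) : ℓ (alt (sgen P i) (sgen P j) k) = k := by
  have hle : ℓ (alt (sgen P i) (sgen P j) k) ≤ k := by
    have hlen : ∀ (k : ℕ) (i j : P.S), (ExchSys.altList i j k).length = k := by
      intro k
      induction k with
      | zero => intros; rfl
      | succ k ih => intros; simp [ExchSys.altList, ih]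
    exact (wlen_le_of_eq _ (prod_altList P i j k)).trans (hlen k i j).le
  refine le_antisymm hle (not_lt.1 fun hlt => ?_)
  obtain ⟨r, hr, hrlen⟩ := exists_reduced (sgen_gen P) (alt (sgen P i) (sgen P j) k)
  rcases r with _ | ⟨x, r'⟩
  · exact alt_ne_one (sgen_sq P i) (sgen_sq P j) (sgen_ne_one P i) (sgen_ne_one P j)
      (m := k) (by omega) (by omega) (by simpa using hr.symm)
  rcases hS x with rfl | rfl
  · have h := (sys P).eq_altList (i := x) (j := j) (x :: r') (fun y _ => hS y)
      (hrlen.trans (congrArg _ hr.symm)) rfl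
    rw [h, prod_altList, hrlen] at hr
    exact alt_injective _ k _ _ (sgen_sq P x) (sgen_sq P j) (sgen_ne_one P x) (sgen_ne_one P j) hlt
      (by omega) hr.symm
  · have h := (sys P).eq_altList (i := x) (j := i) (x :: r') (fun y _ => (hS y).symm)
      (hrlen.trans (congrArg _ hr.symm)) rfl
    rw [h, prod_altList, hrlen] at hr
    exact alt_ne_alt k _ _ _ (sgen_sq P i) (sgen_sq P x) (sgen_ne_one P i) (sgen_ne_one P x)
      (by omega) (by omega) hr.symm

theorem card_weyl [Finite G] {i j : P.S} (hij : i ≠ j) (hS : ∀ x : P.S, x = i ∨ x = j) :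
    Nat.card (Weyl P) = 2 * orderOf (sgen P i * sgen P j) := by
  set σ := sgen P i with hσ
  set τ := sgen P j with hτ
  set ρ := σ * τ with hρ
  have hσσ : σ * σ = 1 := sgen_sq P i
  have hττ : τ * τ = 1 := sgen_sq P j
  have hσ1 : σ ≠ 1 := sgen_ne_one P i
  have hτ1 : τ ≠ 1 := sgen_ne_one P j
  have hσρ : ∀ z : ℤ, σ * ρ ^ z = ρ ^ (-z) * σ := by
    intro z
    have h : σ * ρ * σ⁻¹ = ρ⁻¹ := by
      rw [hρ, mul_inv_rev, inv_eq_of_mul_eq_one_right hσσ, inv_eq_of_mul_eq_one_right hττ,
        ← mul_assoc σ σ τ, hσσ, one_mul]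
    rw [_root_.zpow_neg, ← inv_zpow, ← h, conj_zpow]
    group
  let f : Fin (orderOf ρ) × Bool → Weyl P := fun x =>
    ρ ^ (x.1 : ℕ) * if x.2 then σ else 1
  have hf : Function.Bijective f := by
    constructor
    · rintro ⟨a, e⟩ ⟨b, e'⟩ h
      simp only [f] at h
      have key : ∀ a b : ℕ, a < orderOf ρ → b < orderOf ρ → ρ ^ a * σ ≠ ρ ^ b := by
        intro a b ha hb h
        have h' : alt σ τ (2 * a + 1) = alt σ τ (2 * b) := by
          rw [alt_two_mul, ← h, alt_two_mul_succ]
          clear h ha hb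
          induction a with
          | zero => simp
          | succ a ih => rw [pow_succ, ← mul_assoc, ih, pow_succ, hρ]; simp only [mul_assoc]
        rcases Nat.lt_or_gt_of_ne (show 2 * a + 1 ≠ 2 * b by omega) with hc | hc
        · exact alt_injective _ _ σ τ hσσ hττ hσ1 hτ1 hc (by rw [← hρ]; omega) h'.symm
        · exact alt_injective _ _ σ τ hσσ hττ hσ1 hτ1 hc (by rw [← hρ]; omega) h'
      cases e <;> cases e' <;> simp only [if_true, if_false, mul_one, Bool.false_eq_true] at h
      · exact Prod.ext (Fin.ext (pow_injOn_Iio_orderOf a.2 b.2 h)) rfl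
      · exact absurd h.symm (key b a b.2 a.2)
      · exact absurd h (key a b a.2 b.2)
      · exact Prod.ext (Fin.ext (pow_injOn_Iio_orderOf a.2 b.2 (mul_right_cancel h))) rfl
    · intro w
      have hmem : ∃ z : ℤ, w = ρ ^ z ∨ w = ρ ^ z * σ := by
        obtain ⟨l, rfl⟩ := sgen_gen P w
        induction l with
        | nil => exact ⟨0, Or.inl (by simp)⟩
        | cons x l ih =>
          obtain ⟨z, hz⟩ := ih
          rw [List.map_cons, List.prod_cons]
          rcases hS x with rfl | rfl
          · rcases hz with hz | hz <;> rw [hz]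
            · exact ⟨-z, Or.inr (hσρ z)⟩
            · refine ⟨-z, Or.inl ?_⟩
              rw [← mul_assoc, ← hσ, hσρ, mul_assoc, hσσ, mul_one]
          · have hx : sgen P x = σ * ρ := by rw [hρ, ← mul_assoc, hσσ, one_mul]
            rcases hz with hz | hz <;> rw [hz, hx, mul_assoc]
            · exact ⟨-(1 + z), Or.inr (by rw [← hσρ, _root_.zpow_add, _root_.zpow_one])⟩
            · refine ⟨-(1 + z), Or.inl ?_⟩
              rw [← mul_assoc ρ, ← _root_.zpow_one_add, ← mul_assoc, hσρ, mul_assoc, hσσ, mul_one]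
      obtain ⟨z, hz⟩ := hmem
      have hfin : IsOfFinOrder ρ := isOfFinOrder_of_finite _
      have hN : 0 < orderOf ρ := hfin.orderOf_pos
      refine hz.elim (fun hz => ⟨(⟨(z % (orderOf ρ : ℤ)).toNat, ?_⟩, false), ?_⟩)
        (fun hz => ⟨(⟨(z % (orderOf ρ : ℤ)).toNat, ?_⟩, true), ?_⟩)
      iterate 2
        · have := Int.emod_lt_of_pos z (show (0 : ℤ) < orderOf ρ by omega)
          have := Int.emod_nonneg z (show (orderOf ρ : ℤ) ≠ 0 by omega)
          omega
        · simp only [f, hz, if_true, if_false, mul_one, Bool.false_eq_true, ← zpow_natCast,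
            Int.toNat_of_nonneg (Int.emod_nonneg z (show (orderOf ρ : ℤ) ≠ 0 by omega)),
            zpow_mod_orderOf]
  rw [← Nat.card_eq_of_bijective f hf, Nat.card_prod, Nat.card_eq_fintype_card,
    Nat.card_eq_fintype_card, Fintype.card_fin, Fintype.card_bool, mul_comm]

/-! ### The relation -/

/-- The relative position of two cosets. -/
noncomputable def rel (x y : G ⧸ P.B) : Weyl P :=
  (exists_cell P (x.out⁻¹ * y.out)).choose

theorem rel_mk {g h : G} {w : Weyl P} (hw : g⁻¹ * h ∈ cell P w) :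
    rel P (g : G ⧸ P.B) (h : G ⧸ P.B) = w := by
  obtain ⟨b, hb⟩ := QuotientGroup.mk_out_eq_mul P.B g
  obtain ⟨c, hc⟩ := QuotientGroup.mk_out_eq_mul P.B h
  refine eq_of_mem_cell P (exists_cell P _).choose_spec ?_
  rw [hb, hc, show (g * (b : G))⁻¹ * (h * c) = (b : G)⁻¹ * (g⁻¹ * h) * c by group]
  exact cell_right P (cell_left P (inv_mem b.2) hw) c.2

theorem rel_spec (g h : G) : g⁻¹ * h ∈ cell P (rel P (g : G ⧸ P.B) (h : G ⧸ P.B)) := by
  obtain ⟨w, hw⟩ := exists_cell P (g⁻¹ * h)
  rwa [rel_mk P hw]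

theorem rel_eq_one {x y : G ⧸ P.B} : rel P x y = 1 ↔ x = y := by
  induction x using QuotientGroup.induction_on with
  | _ g =>
  induction y using QuotientGroup.induction_on with
  | _ h =>
  rw [QuotientGroup.eq]
  constructor
  · intro e
    have := rel_spec P g h
    rwa [e, mem_cell_one] at this
  · exact fun e => rel_mk P ((mem_cell_one P).2 e)

theorem rel_symm (x y : G ⧸ P.B) : rel P y x = (rel P x y)⁻¹ := by
  induction x using QuotientGroup.induction_on with
  | _ g =>
  induction y using QuotientGroup.induction_on with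
  | _ h =>
  refine rel_mk P ?_
  have := cell_inv P (rel_spec P g h)
  rwa [mul_inv_rev, inv_inv] at this

theorem rel_trans {s : P.S} {x y z : G ⧸ P.B} {w : Weyl P} (h1 : rel P x y = sgen P s)
    (h2 : rel P y z = w) :
    (rel P x z = sgen P s * w ∨ rel P x z = w) ∧
      (ℓ w ≤ ℓ (sgen P s * w) → rel P x z = sgen P s * w) := by
  induction x using QuotientGroup.induction_on with
  | _ g =>
  induction y using QuotientGroup.induction_on with
  | _ h =>
  induction z using QuotientGroup.induction_on with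
  | _ k =>
  have hs := h1 ▸ rel_spec P g h
  have hw := h2 ▸ rel_spec P h k
  obtain ⟨b, hb, b', hb', e⟩ := (mem_cell_wk P (P.subset s.2)).1 hs
  have e2 : g⁻¹ * k = b * ((s : G) * (b' * (h⁻¹ * k))) := by
    calc g⁻¹ * k = (g⁻¹ * h) * (h⁻¹ * k) := by group
      _ = _ := by rw [e]; group
  have hw' := cell_left P hb' hw
  constructor
  · rcases mul_cell P s hw' with e3 | e3
    · exact Or.inl (rel_mk P (e2 ▸ cell_left P hb e3))
    · exact Or.inr (rel_mk P (e2 ▸ cell_left P hb e3))
  · exact fun hle => rel_mk P (e2 ▸ cell_left P hb (mul_cell_of_le' P hle hw'))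

variable [Fintype (G ⧸ P.B)] [DecidableEq (G ⧸ P.B)] [DecidableEq (Weyl P)]

/-- The adjacency matrix of a relative position. -/
noncomputable def T (w : Weyl P) : Matrix (G ⧸ P.B) (G ⧸ P.B) ℝ :=
  Matrix.of fun x y => if rel P x y = w then 1 else 0

theorem T_apply (w : Weyl P) (x y : G ⧸ P.B) : T P w x y = if rel P x y = w then 1 else 0 := rfl

theorem T_transpose (w : Weyl P) : (T P w)ᵀ = T P w⁻¹ := by
  ext x y
  rw [Matrix.transpose_apply, T_apply, T_apply, rel_symm P x y]
  exact if_congr inv_eq_iff_eq_inv rfl rfl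

theorem T_one : T P 1 = 1 := by
  ext x y
  rw [T_apply, Matrix.one_apply]
  exact if_congr (rel_eq_one P) rfl rfl

theorem trace_T {w : Weyl P} (hw : w ≠ 1) : (T P w).trace = 0 := by
  refine Finset.sum_eq_zero fun x _ => ?_
  rw [Matrix.diag_apply, T_apply, if_neg]
  rw [(rel_eq_one P).2 rfl]
  exact fun h => hw h.symm

theorem T_mul_apply (v w : Weyl P) (x z : G ⧸ P.B) :
    (T P v * T P w) x z =
      ((Finset.univ.filter fun y => rel P x y = v ∧ rel P y z = w).card : ℝ) := by
  simp only [Matrix.mul_apply, T_apply, ← ite_and, ite_mul, one_mul, zero_mul, Finset.sum_boole]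

theorem T_mul {s : P.S} {w : Weyl P} (hle : ℓ w ≤ ℓ (sgen P s * w)) :
    T P (sgen P s) * T P w = T P (sgen P s * w) := by
  ext x z
  rw [T_mul_apply, T_apply]
  split
  · next hxz =>
    rw [← Nat.cast_one, Nat.cast_inj, Finset.card_eq_one]
    induction x using QuotientGroup.induction_on with
    | _ g =>
    induction z using QuotientGroup.induction_on with
    | _ k =>
    obtain ⟨m, hm, hmw⟩ := exists_rep P w
    have hc := hxz ▸ rel_spec P g k
    rw [← hmw, sgen, ← wk_mul, mem_cell_wk] at hc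
    obtain ⟨b, hb, b', hb', e⟩ := hc
    refine ⟨((g * b * (s : G) : G) : G ⧸ P.B), ?_⟩
    have h1 : rel P (g : G ⧸ P.B) ((g * b * (s : G) : G) : G ⧸ P.B) = sgen P s := by
      refine rel_mk P ?_
      rw [show g⁻¹ * (g * b * (s : G)) = b * (s : G) by group]
      exact cell_left P hb (sgen_mem_cell P s)
    have h2 : rel P ((g * b * (s : G) : G) : G ⧸ P.B) (k : G ⧸ P.B) = w := by
      refine rel_mk P ?_
      rw [show (g * b * (s : G))⁻¹ * k = (s : G)⁻¹ * (b⁻¹ * (g⁻¹ * k)) by group, e, ← hmw]
      rw [show (s : G)⁻¹ * (b⁻¹ * (b * ((s : G) * m) * b')) = m * b' by group]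
      exact cell_right P (self_mem_cell P hm) hb'
    refine Finset.eq_singleton_iff_unique_mem.2 ⟨by simp [h1, h2], fun y hy => ?_⟩
    rw [Finset.mem_filter] at hy
    obtain ⟨-, hy1, hy2⟩ := hy
    by_contra hne
    have h3 : rel P y (g : G ⧸ P.B) = sgen P s := by rw [rel_symm, hy1, sgen_inv]
    rcases (rel_trans P h3 h1).1 with h4 | h4
    · rw [sgen_sq] at h4
      exact hne ((rel_eq_one P).1 h4)
    · have h5 := (rel_trans P h4 h2).2 hle
      rw [hy2] at h5
      exact sgen_ne_one P s (mul_eq_right.1 h5.symm)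
  · next hxz =>
    rw [← Nat.cast_zero, Nat.cast_inj, Finset.card_eq_zero, Finset.filter_eq_empty_iff]
    exact fun y _ hy => hxz ((rel_trans P hy.1 hy.2).2 hle)

/-- The index parameter of a generator. -/
noncomputable def param (s : P.S) : ℕ :=
  (Finset.univ.filter fun y : G ⧸ P.B => rel P ((1 : G) : G ⧸ P.B) y = sgen P s).card

theorem card_nbr (s : P.S) (x : G ⧸ P.B) :
    (Finset.univ.filter fun y => rel P x y = sgen P s).card = param P s := by
  induction x using QuotientGroup.induction_on with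
  | _ g =>
  refine Finset.card_equiv (MulAction.toPerm g⁻¹) fun y => ?_
  induction y using QuotientGroup.induction_on with
  | _ h =>
  simp only [Finset.mem_filter, Finset.mem_univ, true_and, MulAction.toPerm_apply,
    MulAction.Quotient.smul_mk, smul_eq_mul]
  rw [rel_mk P (g := 1) (h := g⁻¹ * h) (w := rel P (g : G ⧸ P.B) (h : G ⧸ P.B))
    (by simpa using rel_spec P g h)]

theorem two_le_param (s : P.S) : 2 ≤ param P s := by
  obtain ⟨b, hb, hbs⟩ := exists_conj_mem_cell P s
  have h : ({((s : G) : G ⧸ P.B), ((b * (s : G) : G) : G ⧸ P.B)} : Finset (G ⧸ P.B)) ⊆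
      Finset.univ.filter fun y : G ⧸ P.B => rel P ((1 : G) : G ⧸ P.B) y = sgen P s := by
    intro y hy
    simp only [Finset.mem_insert, Finset.mem_singleton] at hy
    simp only [Finset.mem_filter, Finset.mem_univ, true_and]
    rcases hy with rfl | rfl
    · exact rel_mk P (by simpa using sgen_mem_cell P s)
    · exact rel_mk P (by simpa using cell_left P hb (sgen_mem_cell P s))
  have hne : ((s : G) : G ⧸ P.B) ≠ ((b * (s : G) : G) : G ⧸ P.B) := by
    intro e
    rw [QuotientGroup.eq] at e
    have h1 : (s : G) * b * s ∈ P.B := by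
      have : (s : G) * b * s = ((s : G) * s) * ((s : G)⁻¹ * (b * s)) := by group
      rw [this]
      exact mul_mem (P.sq_mem _ s.2) e
    exact sgen_ne_one P s (eq_of_mem_cell P hbs ((mem_cell_one P).2 h1))
  have := Finset.card_le_card h
  rw [Finset.card_pair hne] at this
  exact this

theorem T_sq (s : P.S) : T P (sgen P s) * T P (sgen P s) =
    ((param P s : ℝ) - 1) • T P (sgen P s) + (param P s : ℝ) • 1 := by
  ext x z
  rw [T_mul_apply, Matrix.add_apply, Matrix.smul_apply, Matrix.smul_apply, T_apply, Matrix.one_apply]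
  simp only [smul_eq_mul]
  by_cases hxz : x = z
  · subst hxz
    rw [if_neg (by rw [(rel_eq_one P).2 rfl]; exact (sgen_ne_one P s).symm), if_pos rfl]
    have e : (Finset.univ.filter fun y => rel P x y = sgen P s ∧ rel P y x = sgen P s) =
        Finset.univ.filter fun y => rel P x y = sgen P s := by
      refine Finset.filter_congr fun y _ => ⟨And.left, fun h => ⟨h, ?_⟩⟩
      rw [rel_symm, h, sgen_inv]
    rw [e, card_nbr]
    ring
  rw [if_neg hxz]
  by_cases hr : rel P x z = sgen P s
  · rw [if_pos hr]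
    have e : (Finset.univ.filter fun y => rel P x y = sgen P s ∧ rel P y z = sgen P s) =
        (Finset.univ.filter fun y => rel P x y = sgen P s).erase z := by
      ext y
      simp only [Finset.mem_filter, Finset.mem_univ, true_and, Finset.mem_erase]
      constructor
      · rintro ⟨h1, h2⟩
        exact ⟨fun e => sgen_ne_one P s (by rw [← h2, e, (rel_eq_one P).2 rfl]), h1⟩
      · rintro ⟨hne, h1⟩
        refine ⟨h1, ?_⟩
        have h3 : rel P y x = sgen P s := by rw [rel_symm, h1, sgen_inv]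
        rcases (rel_trans P h3 hr).1 with h4 | h4
        · rw [sgen_sq] at h4
          exact absurd ((rel_eq_one P).1 h4) hne
        · exact h4
    rw [e, Finset.card_erase_of_mem (by simp [hr]), card_nbr,
      Nat.cast_sub (one_le_two.trans (two_le_param P s))]
    ring
  · rw [if_neg hr, Finset.card_eq_zero.2 ?_]
    · simp
    rw [Finset.filter_eq_empty_iff]
    intro y _ hy
    rcases (rel_trans P hy.1 hy.2).1 with h4 | h4
    · rw [sgen_sq] at h4
      exact hxz ((rel_eq_one P).1 h4)
    · exact hr h4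

theorem alt_T : ∀ (k : ℕ) {i j : P.S}, i ≠ j → (∀ x : P.S, x = i ∨ x = j) →
    k ≤ orderOf (sgen P i * sgen P j) →
    alt (T P (sgen P i)) (T P (sgen P j)) k = T P (alt (sgen P i) (sgen P j) k)
  | 0, i, j, _, _, _ => (T_one P).symm
  | k + 1, i, j, hij, hS, hk => by
    have e : orderOf (sgen P j * sgen P i) = orderOf (sgen P i * sgen P j) :=
      orderOf_mul_comm' (sgen_sq P i) (sgen_sq P j)
    show T P (sgen P i) * alt (T P (sgen P j)) (T P (sgen P i)) k = _
    rw [alt_T k hij.symm (fun x => (hS x).symm) (by omega), T_mul]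
    · rfl
    · rw [wlen_alt P hij.symm (fun x => (hS x).symm) (by omega)]
      show k ≤ ℓ (alt (sgen P i) (sgen P j) (k + 1))
      rw [wlen_alt P hij hS hk]
      omega

theorem trace_alt_T {i j : P.S} (hij : i ≠ j) (hS : ∀ x : P.S, x = i ∨ x = j) {k : ℕ}
    (h1 : 1 ≤ k) (hk : k ≤ orderOf (sgen P i * sgen P j)) :
    (alt (T P (sgen P i)) (T P (sgen P j)) k).trace = 0 := by
  rw [alt_T P k hij hS hk]
  exact trace_T P (alt_ne_one (sgen_sq P i) (sgen_sq P j) (sgen_ne_one P i) (sgen_ne_one P j) h1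
    (by omega))

theorem braid_T {i j : P.S} (hij : i ≠ j) (hS : ∀ x : P.S, x = i ∨ x = j) :
    alt (T P (sgen P i)) (T P (sgen P j)) (orderOf (sgen P i * sgen P j)) =
      alt (T P (sgen P j)) (T P (sgen P i)) (orderOf (sgen P i * sgen P j)) := by
  have e : orderOf (sgen P j * sgen P i) = orderOf (sgen P i * sgen P j) :=
    orderOf_mul_comm' (sgen_sq P i) (sgen_sq P j)
  rw [alt_T P _ hij hS le_rfl, alt_T P _ hij.symm (fun x => (hS x).symm) e.ge, alt_braid]

end CfsgLib.FeitHigman
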