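import Mathlib
import Cfsg.Agent.Lib.FeitHigman.Even

/-! The multiplicity formula for generalised polygons of odd girth parameter. -/

set_option autoImplicit false

open Polynomial Matrix Real

namespace CfsgLib.FeitHigman

variable {Ω : Type*} [Fintype Ω] [DecidableEq Ω]

theorem alt_self {M : Type*} [Monoid M] (a : M) : ∀ k, alt a a k = a ^ k
  | 0 => by simp [alt]
  | k + 1 => by
    show a * alt a a k = _
    rw [alt_self a k, pow_succ']

namespace Quad

variable {S : Quad (Matrix Ω Ω ℝ)}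

theorem trace_half_odd (hqr : S.r = S.q) {s : Finset ℝ} (hann : Ann S.Y s) {f : ℝ → ℝ}
    (hf : ∀ z ∈ s, z = S.q * S.q + 1 → f z = 0) :
    2 * (fn S.Y s f * (S.A * S.B)).trace = (fn S.Y s f * S.Y).trace := by
  set D := S.A - S.B with hD
  set e := S.A + S.B - (S.q - 1) • (1 : Matrix Ω Ω ℝ) with he
  let g : ℝ → ℝ := fun z => f z / (S.q * S.q + 1 - z)
  have hfac : fn S.Y s f = fn S.Y s g * (D * D) := by
    rw [hD, S.diff_sq hqr, hann.aeval_eq (f := fun z => S.q * S.q + 1 - z) (fun z _ => by simp),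
      hann.fn_mul]
    refine hann.fn_congr fun z hz => ?_
    by_cases h0 : S.q * S.q + 1 - z = 0
    · rw [hf z hz (by linarith), h0, mul_zero]
    · exact (div_mul_cancel₀ _ h0).symm
  obtain ⟨hgA, hgB⟩ := commute_fn (S := S) (s := s) g
  obtain ⟨hfA, -⟩ := commute_fn (S := S) (s := s) f
  have hgD : Commute (fn S.Y s g) D := hgA.symm.sub_right hgB.symm
  have h1 : fn S.Y s f * e = -(fn S.Y s g * D * e * D) := by
    rw [hfac]
    calc fn S.Y s g * (D * D) * e = fn S.Y s g * D * (D * e) := by simp only [mul_assoc]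
      _ = _ := by rw [hD, he, S.diff_anti hqr, mul_neg]; simp only [mul_assoc]
  have h2 : (fn S.Y s g * D * e * D).trace = (fn S.Y s f * e).trace := by
    rw [trace_mul_comm, hfac, ← mul_assoc D, ← mul_assoc D, ← hgD.eq]
    simp only [mul_assoc]
  have hkill : (fn S.Y s f * e).trace = 0 := by
    have h3 := congrArg Matrix.trace h1
    rw [trace_neg, h2] at h3
    linarith
  have hC0 : (fn S.Y s f * (S.A * S.B - S.B * S.A)).trace = 0 := by
    rw [mul_sub, trace_sub, ← mul_assoc, ← mul_assoc, ← hfA.eq, trace_mul_cycle, sub_eq_zero,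
      trace_mul_comm (S.B * S.A), mul_assoc]
  have h2AB : (2 : ℝ) • (S.A * S.B) =
      S.Y + (S.A * S.B - S.B * S.A) + (S.q - 1) • e := by
    rw [S.two_mul_AB, hqr, he]
    module
  have h := congrArg (fun M => (fn S.Y s f * M).trace) h2AB
  simp only [mul_smul_comm, trace_smul, mul_add, trace_add, smul_eq_mul, hC0, hkill, mul_zero,
    add_zero] at h
  exact h

end Quad

/-- The multiplicity formula. -/
theorem odd_formula (S : Quad (Matrix Ω Ω ℝ)) (hA : S.Aᵀ = S.A) (hB : S.Bᵀ = S.B)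
    (hq : 1 < S.q) (hqr : S.r = S.q) {h₀ : ℕ}
    (hbraid : alt S.A S.B (2 * (h₀ + 1) + 1) = alt S.B S.A (2 * (h₀ + 1) + 1))
    (htA : ∀ k, 1 ≤ k → k ≤ 2 * (h₀ + 1) + 1 → (alt S.A S.B k).trace = 0)
    (htB : ∀ k, 1 ≤ k → k ≤ 2 * (h₀ + 1) + 1 → (alt S.B S.A k).trace = 0)
    {j : ℕ} (hj1 : 1 ≤ j) (hj : j ≤ h₀ + 1) :
    ∃ μ : ℕ, ((2 * (h₀ + 1) + 1 : ℕ) : ℝ) * μ *
        (S.q * S.q + 1 - 2 * S.q * cos (j * (2 * π / (2 * (h₀ + 1) + 1 : ℕ)))) =
      2 * Fintype.card Ω *
        (2 * S.q - 2 * S.q * cos (j * (2 * π / (2 * (h₀ + 1) + 1 : ℕ)))) := by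
  classical
  have hq0 : 0 < S.q := by linarith
  set m := h₀ + 1 with hm
  set n := 2 * m + 1 with hn
  set q := S.q with hqdef
  set δ := 2 * π / (n : ℕ) with hδ
  have hn0 : (0 : ℝ) < n := by exact_mod_cast (show 0 < n by omega)
  have hδ0 : 0 < δ := by rw [hδ]; positivity
  have hnδ : (n : ℝ) * δ = 2 * π := by rw [hδ]; field_simp
  have hroot : ∀ i : ℕ, 1 ≤ i → i ≤ m → 0 < i * δ ∧ i * δ < π := by
    intro i h1 h2
    refine ⟨mul_pos (by exact_mod_cast h1) hδ0, ?_⟩
    calc (i : ℝ) * δ ≤ m * δ := mul_le_mul_of_nonneg_right (by exact_mod_cast h2) hδ0.le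
      _ < π := by
        have : (n : ℝ) = 2 * m + 1 := by rw [hn]; push_cast; ring
        rw [this] at hnδ
        nlinarith
  set A0 := q * q + 1 with hA0
  have hAu : 2 * q < A0 := by rw [hA0]; nlinarith
  let T : Finset ℝ := (Finset.Icc 1 m).image fun i : ℕ => 2 * q * cos (i * δ)
  set s : Finset ℝ := insert A0 T with hs
  have hAT : A0 ∉ T := by
    intro h
    obtain ⟨i, -, hi⟩ := Finset.mem_image.1 h
    nlinarith [cos_le_one ((i : ℝ) * δ)]
  have hTcard : T.card = m := by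
    rw [Finset.card_image_of_injOn, Nat.card_Icc, Nat.add_sub_cancel]
    intro a ha b hb hab
    simp only [Finset.coe_Icc, Set.mem_Icc] at ha hb
    obtain ⟨a1, a2⟩ := hroot a ha.1 ha.2
    obtain ⟨b1, b2⟩ := hroot b hb.1 hb.2
    have h := injOn_cos ⟨a1.le, a2.le⟩ ⟨b1.le, b2.le⟩ (mul_left_cancel₀ (by positivity) hab)
    exact_mod_cast mul_right_cancel₀ hδ0.ne' h
  have hscard : s.card = m + 1 := by
    rw [hs, Finset.card_insert_of_notMem hAT, hTcard]
  have hflip : ∀ i : ℕ, ((m + 1 : ℕ) : ℝ) * (i * δ) = i * (2 * π) - m * (i * δ) := by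
    intro i
    rw [← hnδ, hn]; push_cast; ring
  obtain ⟨hmon1, hdeg1, -⟩ := sec_coeff (q * q) m
  obtain ⟨-, hdeg0, -⟩ := sec_coeff (q * q) h₀
  set F := sec (q * q) (m + 1) + C q * sec (q * q) m with hF
  have hlt : (C q * sec (q * q) m).degree < (sec (q * q) (m + 1)).degree := by
    rw [degree_eq_natDegree hmon1.ne_zero, hdeg1]
    refine lt_of_le_of_lt degree_le_natDegree ?_
    have := natDegree_C_mul_le q (sec (q * q) m)
    rw [← hm] at hdeg0
    exact_mod_cast (show (C q * sec (q * q) m).natDegree < m by omega)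
  have hFmon : F.Monic := hmon1.add_of_left hlt
  have hFdeg : F.natDegree = m := by
    refine natDegree_eq_of_degree_eq_some ?_
    rw [hF, degree_add_eq_left_of_degree_lt hlt, degree_eq_natDegree hmon1.ne_zero, hdeg1]
  have hann : Ann S.Y s := by
    refine ann_of_monic (hFmon.mul (monic_X_sub_C A0)) ?_ ?_ ?_
    · rw [hFmon.natDegree_mul (monic_X_sub_C A0), hFdeg, natDegree_X_sub_C, hscard]
    · intro z hz
      rw [hs, Finset.mem_insert] at hz
      rcases hz with rfl | hz
      · simp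
      · obtain ⟨i, hi, rfl⟩ := Finset.mem_image.1 hz
        rw [Finset.mem_Icc] at hi
        obtain ⟨a1, a2⟩ := hroot i hi.1 hi.2
        have e0 : sin ((m + 1 : ℕ) * (i * δ)) = -sin (m * (i * δ)) := by
          rw [hflip, sin_nat_mul_two_pi_sub]
        have e1 := sec_eval (p := q * q) (u := q) (sq q) (θ := (i : ℝ) * δ) (m + 1)
        have e2 := sec_eval (p := q * q) (u := q) (sq q) (θ := (i : ℝ) * δ) m
        have hs0 : q * sin (i * δ) ≠ 0 := (mul_pos hq0 (sin_pos_of_pos_of_lt_pi a1 a2)).ne'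
        rw [e0] at e1
        have e3 : F.eval (2 * q * cos (i * δ)) * (q * sin (i * δ)) = 0 := by
          rw [hF, eval_add, eval_mul, eval_C]
          linear_combination e1 + q * e2
        rw [eval_mul, (mul_eq_zero.1 e3).resolve_right hs0, zero_mul]
    · have hb : S.A * (S.B * S.A) ^ m = S.B * (S.A * S.B) ^ m := by
        rw [← alt_two_mul_succ, ← alt_two_mul_succ]; exact hbraid
      have h0 : aeval S.Y F * (S.A - S.B) = 0 := S.annihilate_odd hqr hb
      have : F * (X - C A0) = -(F * (C A0 - X)) := by ring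
      rw [this, map_neg, map_mul, hA0, hqdef, ← S.diff_sq hqr, ← mul_assoc, h0, zero_mul, neg_zero]
  have hcomm : fn S.Y s (ind A0) * (S.A * S.B) = fn S.Y s (ind A0) * (S.B * S.A) := by
    obtain ⟨hfA, hfB⟩ := Quad.commute_fn (S := S) (s := s) (ind A0)
    have hfD : Commute (fn S.Y s (ind A0)) (S.A - S.B) := hfA.symm.sub_right hfB.symm
    have h0 : fn S.Y s (ind A0) * (S.A - S.B) = 0 := by
      apply eq_zero_of_transpose_mul
      rw [transpose_mul, show (fn S.Y s (ind A0))ᵀ = fn S.Y s (ind A0) from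
        transpose_aeval (Quad.transpose_Y hA hB) _, transpose_sub, hA, hB, ← hfD.eq,
        mul_assoc, ← mul_assoc (S.A - S.B), ← hfD.eq, mul_assoc (fn S.Y s (ind A0)) (S.A - S.B),
        ← mul_assoc, S.diff_sq hqr, hann.aeval_eq (f := fun z => A0 - z) (fun z _ => by simp [hA0, hqdef]),
        hann.fn_mul, hann.fn_mul, hann.fn_congr (g := fun _ => 0 * (1 : ℝ)) fun z _ => ?_,
        fn_smul, zero_smul]
      by_cases hz : z = A0
      · subst hz; simp
      · simp [ind, hz]
    rw [mul_sub, sub_eq_zero] at h0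
    calc fn S.Y s (ind A0) * (S.A * S.B) = fn S.Y s (ind A0) * S.B * S.B := by
          rw [← mul_assoc, h0]
      _ = S.B * (fn S.Y s (ind A0) * S.B) := by rw [← mul_assoc, hfB.eq]
      _ = S.B * (fn S.Y s (ind A0) * S.A) := by rw [h0]
      _ = fn S.Y s (ind A0) * (S.B * S.A) := by rw [← mul_assoc, hfB.eq, mul_assoc]
  -- the linear functional
  set θ := (j : ℝ) * δ with hθ
  set y := 2 * q * cos θ with hy
  let c : ℕ → ℝ := fun k => cos ((k : ℕ) * θ) / q ^ k
  let L : Matrix Ω Ω ℝ → ℝ := fun M => M.trace +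
    2 * ∑ k ∈ Finset.range m, c (k + 1) * (M * (S.A * S.B) ^ (k + 1)).trace
  have hLadd : ∀ M M', L (M + M') = L M + L M' := by
    intro M M'
    simp only [L, add_mul, trace_add, mul_add, Finset.sum_add_distrib]
    ring
  have hL1 : L 1 = Fintype.card Ω := by
    show (1 : Matrix Ω Ω ℝ).trace + _ = _
    rw [Finset.sum_eq_zero fun k hk => ?_]
    · simp
    · rw [one_mul, ← alt_two_mul,
        htA (2 * (k + 1)) (by omega) (by rw [Finset.mem_range] at hk; omega), mul_zero]
  have hLjoint : ∀ la oa lb ob, S.A * S.joint s (S.jointVal la lb) la oa lb ob =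
      la • S.joint s (S.jointVal la lb) la oa lb ob →
      S.B * S.joint s (S.jointVal la lb) la oa lb ob =
      lb • S.joint s (S.jointVal la lb) la oa lb ob →
      L (S.joint s (S.jointVal la lb) la oa lb ob) =
        (S.joint s (S.jointVal la lb) la oa lb ob).trace * cosPart m (la * lb / q) θ := by
    intro la oa lb ob h1 h2
    set M := S.joint s (S.jointVal la lb) la oa lb ob
    have hk : ∀ k : ℕ, (M * (S.A * S.B) ^ k).trace = (la * lb) ^ k * M.trace := by
      intro k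
      rw [trace_mul_comm, ← alt_two_mul, alt_mul_eigen _ _ _ _ _ _ h1 h2, alt_two_mul, trace_smul,
        smul_eq_mul]
    simp only [L, hk, cosPart, c, div_pow]
    rw [mul_add, mul_one, Finset.mul_sum, Finset.mul_sum, Finset.mul_sum]
    congr 1
    exact Finset.sum_congr rfl fun k _ => by ring
  let rest : ℝ → ℝ := fun z => if z = A0 then 0 else 1
  have hLrest : L (fn S.Y s rest) = ((n : ℝ) / 2) * (fn S.Y s (ind y)).trace := by
    have hv : ∀ z ∈ s, z = q * q + 1 → rest z = 0 := fun z _ hz => if_pos hz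
    have hk : ∀ k, (fn S.Y s rest * (S.A * S.B) ^ k).trace =
        (fn S.Y s (fun z => 2⁻¹ * (rest z * (dick (q * q) k).eval z))).trace := by
      intro k
      have := Quad.trace_pow' hann (fun z => z = q * q + 1)
        (fun _ h => Quad.trace_half_odd hqr hann h) k hv
      rw [hqr] at this
      rw [fn_smul, trace_smul, ← this, smul_eq_mul, ← mul_assoc, inv_mul_cancel₀ two_ne_zero,
        one_mul]
    simp only [L]
    simp only [hk]
    simp only [← smul_eq_mul (c _), ← trace_smul, ← fn_smul, ← trace_sum]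
    rw [← smul_eq_mul (2 : ℝ), ← trace_smul, ← trace_add, ← smul_eq_mul ((n : ℝ) / 2),
      ← trace_smul, ← fn_smul]
    congr 1
    simp only [fn, ← map_sum, ← map_add, ← map_smul]
    refine hann.aeval_eq fun z hz => ?_
    simp only [eval_interp _ hz]
    rw [hs, Finset.mem_insert] at hz
    have hyT : y ∈ T := Finset.mem_image.2 ⟨j, Finset.mem_Icc.2 ⟨hj1, hj⟩, rfl⟩
    rcases hz with rfl | hz
    · have : A0 ≠ y := fun e => hAT (e ▸ hyT)
      simp [rest, ind, this]
    · have hz1 : rest z = 1 := by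
        have : z ≠ A0 := fun e => hAT (e ▸ hz)
        simp [rest, this]
      obtain ⟨i, hi, rfl⟩ := Finset.mem_image.1 hz
      rw [Finset.mem_Icc] at hi
      simp only [Pi.add_apply, Pi.smul_apply, Finset.sum_apply, smul_eq_mul, hz1, one_mul, c,
        dick_eval (sq q)]
      have e1 : ∀ k : ℕ, cos ((k : ℝ) * θ) / q ^ k * (2⁻¹ * (2 * q ^ k * cos (k * (i * δ)))) =
          cos (k * θ) * cos (k * (i * δ)) := by
        intro k
        field_simp
      simp only [e1]
      rw [cosPart_mul, show θ + i * δ = ((j + i : ℕ) : ℤ) * δ by rw [hθ]; push_cast; ring,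
        show θ - i * δ = ((j : ℤ) - i : ℤ) * δ by rw [hθ]; push_cast; ring,
        oddSum_one (by omega) (by omega), oddSum_one (by omega) (by omega), if_neg (by omega)]
      by_cases hij : j = i
      · subst hij
        simp [ind, hy, hθ, hn]
      · rw [if_neg (by omega), ind, if_neg]
        · simp
        · intro e
          obtain ⟨a1, a2⟩ := hroot i hi.1 hi.2
          obtain ⟨b1, b2⟩ := hroot j hj1 hj
          have h := injOn_cos ⟨a1.le, a2.le⟩ ⟨b1.le, b2.le⟩
            (mul_left_cancel₀ (by positivity) e)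
          exact hij (by exact_mod_cast (mul_right_cancel₀ hδ0.ne' h).symm)
  -- the two joint projections
  have ha : S.A * S.A = (q + -1) • S.A - (q * -1) • (1 : Matrix Ω Ω ℝ) := by
    rw [S.hA]; module
  have ha' : S.A * S.A = (-1 + q) • S.A - (-1 * q) • (1 : Matrix Ω Ω ℝ) := by
    rw [S.hA]; module
  have hb : S.B * S.B = (q + -1) • S.B - (q * -1) • (1 : Matrix Ω Ω ℝ) := by
    rw [S.hB, hqr]; module
  have hb' : S.B * S.B = (-1 + q) • S.B - (-1 * q) • (1 : Matrix Ω Ω ℝ) := by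
    rw [S.hB, hqr]; module
  have v1 : S.jointVal q q = A0 := by simp only [Quad.jointVal, hA0, hqr, hqdef]; ring
  have v2 : S.jointVal (-1) (-1) = A0 := by simp only [Quad.jointVal, hA0, hqr, hqdef]; ring
  have v3 : S.jointVal q (-1) ≠ A0 := by
    intro h; simp only [Quad.jointVal, hA0, hqr, hqdef] at h; nlinarith
  have v4 : S.jointVal (-1) q ≠ A0 := by
    intro h; simp only [Quad.jointVal, hA0, hqr, hqdef] at h; nlinarith
  have sA : A0 ∈ s := by simp [hs]
  have nq : q ≠ -1 := by linarith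
  have hbr : ∀ α : ℝ, alt (α • S.A) (α • S.B) n = alt (α • S.B) (α • S.A) n := by
    intro α
    rw [alt_smul, alt_smul, hbraid]
  have ft := fun α la oa => Quad.trace_joint (S := S) hann (n := n) (by omega)
    (α := α) (β := α) (la := la) (oa := oa) (lb := la) (ob := oa)
  have t1 := ft 1 q (-1) (v1 ▸ sA) (v1 ▸ hcomm) ⟨by rw [hqdef]; ring, by rw [hqdef]; ring⟩
    ⟨by rw [hqr, hqdef]; ring, by rw [hqr, hqdef]; ring⟩
    (one_mul _) (by rw [hqr, hqdef, one_mul]) hq0.ne' (hqr ▸ hq0.ne') nq nq (hbr _) htA htB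
  have t2 := ft (-1 / q) (-1) q (v2 ▸ sA) (v2 ▸ hcomm) ⟨by rw [hqdef]; ring, by rw [hqdef]; ring⟩
    ⟨by rw [hqr, hqdef]; ring, by rw [hqr, hqdef]; ring⟩
    (by rw [hqdef, div_mul_cancel₀]; exact hq0.ne') (by rw [hqr, hqdef, div_mul_cancel₀]; exact hq0.ne') hq0.ne' (hqr ▸ hq0.ne') nq.symm
    nq.symm (hbr _) htA htB
  simp only [alt_self] at t1 t2
  have dA : fn S.Y s (ind A0) =
      S.joint s A0 q (-1) q (-1) + S.joint s A0 (-1) q (-1) q := by
    rw [Quad.fn_ind_decomp (x := A0) nq nq,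
      Quad.joint_eq_zero hann (x := A0) hcomm ha hb' v3,
      Quad.joint_eq_zero hann (x := A0) hcomm ha' hb v4, add_zero, zero_add]
  have dec : (1 : Matrix Ω Ω ℝ) = fn S.Y s rest + fn S.Y s (ind A0) := by
    rw [← fn_add, ← hann.fn_one]
    refine hann.fn_congr fun z _ => ?_
    by_cases h1 : z = A0
    · subst h1; simp [rest, ind]
    · simp [rest, ind, h1]
  have key := congrArg L dec
  obtain ⟨j1, j1'⟩ := Quad.mul_joint (x := S.jointVal q q) (v1 ▸ hcomm) ha hb
  obtain ⟨j2, j2'⟩ := Quad.mul_joint (x := S.jointVal (-1) (-1)) (v2 ▸ hcomm) ha' hb'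
  have l1 := hLjoint _ _ _ _ j1 j1'
  have l2 := hLjoint _ _ _ _ j2 j2'
  rw [v1] at l1 t1
  rw [v2] at l2 t2
  rw [hLadd, hL1, hLrest, dA, hLadd, l1, l2] at key
  obtain ⟨μ, hμ⟩ := trace_idem_nat (E := fn S.Y s (ind y)) (by
    rw [hann.fn_mul]; exact hann.fn_congr fun z _ => by simp [ind])
  rw [hμ] at key
  refine ⟨μ, ?_⟩
  set a0 := (S.joint s A0 q (-1) q (-1)).trace
  set a := (S.joint s A0 (-1) q (-1) q).trace
  set N : ℝ := ((Fintype.card Ω : ℕ) : ℝ)
  set G := ∑ k ∈ Finset.range n, q ^ k with hG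
  have T1 : a0 * ((1 + q) * G) = N := by
    rw [← t1, hG]; simp only [one_mul]
  have T2 : a * ((1 + q) * G) = N * q ^ n := by
    have e : (-1 / q * -1) = 1 / q := by field_simp
    rw [e] at t2
    rw [← t2, hG, ← Finset.sum_range_reflect (fun k => q ^ k) n, mul_assoc a,
      mul_comm _ (∑ k ∈ Finset.range n, (1 / q) ^ k), mul_assoc, Finset.sum_mul, Finset.mul_sum]
    congr 1
    refine Finset.sum_congr rfl fun k hk => ?_
    rw [Finset.mem_range] at hk
    obtain ⟨r, hr⟩ : ∃ r, n = k + 1 + r := ⟨n - (k + 1), by omega⟩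
    rw [hr, show k + 1 + r - 1 - k = r by omega, pow_add, pow_succ, one_div, inv_pow]
    field_simp
    ring
  have hc : cos ((m + 1 : ℕ) * θ) = cos (m * θ) := by
    rw [hθ, hflip, cos_nat_mul_two_pi_sub]
  set ρ := cos ((m : ℝ) * θ)
  have D1 : (A0 - y) * cosPart m (q * q / q) θ = (1 - q) * (1 + q - 2 * ρ * q ^ (m + 1)) := by
    rw [mul_div_assoc, div_self hq0.ne', mul_one, hA0, hy]
    linear_combination oddSum_eq (w := q) hc
  have D2 : (A0 - y) * cosPart m ((-1) * (-1) / q) θ =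
      q ^ 2 * ((1 - 1 / q) * (1 + 1 / q - 2 * ρ * (1 / q) ^ (m + 1))) := by
    rw [neg_one_mul, neg_neg]
    have h := oddSum_eq (w := 1 / q) hc
    have e1 : (1 - 2 * (1 / q) * cos θ + (1 / q) ^ 2) * q ^ 2 = A0 - y := by
      rw [hA0, hy]; field_simp; ring
    rw [← e1]
    linear_combination q ^ 2 * h
  have hG1 : G * (q - 1) = q ^ n - 1 := geom_sum_mul q n
  have hGp : 0 < G := Finset.sum_pos (fun k _ => by positivity) (by simp)
  have hz : q ^ n * q ^ 2 * ((1 - 1 / q) * (1 + 1 / q - 2 * ρ * (1 / q) ^ (m + 1))) =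
      (q - 1) * (q ^ n * (q + 1) - 2 * ρ * q ^ (m + 1)) := by
    rw [hn, show 2 * m + 1 = (m + 1) + m by omega, pow_add, pow_succ q m, pow_succ (1 / q) m,
      one_div, inv_pow]
    field_simp
  have P : (A0 - y) * (a0 * cosPart m (q * q / q) θ + a * cosPart m ((-1) * (-1) / q) θ) =
      N * (q - 1) ^ 2 := by
    apply mul_right_cancel₀ (mul_ne_zero (by linarith : (1 : ℝ) + q ≠ 0) hGp.ne')
    linear_combination ((1 + q) * G * a0) * D1 + ((1 + q) * G * a) * D2 +
      ((1 - q) * (1 + q - 2 * ρ * q ^ (m + 1))) * T1 +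
      (q ^ 2 * ((1 - 1 / q) * (1 + 1 / q - 2 * ρ * (1 / q) ^ (m + 1)))) * T2 +
      N * hz - (N * (q - 1) * (1 + q)) * hG1
  linear_combination -2 * (A0 - y) * key - 2 * P + (2 * N) * hA0

end CfsgLib.FeitHigman
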