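import Mathlib

/-! The rationality argument in the theorem of Feit and Higman. -/

set_option autoImplicit false

open Real

namespace CfsgLib.FeitHigman

theorem rat_even {q r N d μ μ' : ℕ} (hq : 2 ≤ q) (hr : 2 ≤ r) (hN : 0 < N) (hd : 0 < d) {y : ℝ}
    (hy : y ^ 2 < 4 * ((q : ℝ) * r))
    (h : (d : ℝ) * μ * (((q : ℝ) * r + 1 - y) * ((q : ℝ) + r + y)) =
      N * (4 * ((q : ℝ) * r) - y ^ 2))
    (h' : (d : ℝ) * μ' * (((q : ℝ) * r + 1 + y) * ((q : ℝ) + r - y)) =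
      N * (4 * ((q : ℝ) * r) - y ^ 2)) :
    ∃ c : ℚ, y = c := by
  have hX : (N : ℝ) * (4 * ((q : ℝ) * r) - y ^ 2) ≠ 0 :=
    mul_ne_zero (by exact_mod_cast hN.ne') (by linarith)
  have hμ : (μ : ℝ) ≠ 0 := fun e => hX (by rw [← h, e]; ring)
  have hμ' : (μ' : ℝ) ≠ 0 := fun e => hX (by rw [← h', e]; ring)
  have hd' : (d : ℝ) ≠ 0 := by exact_mod_cast hd.ne'
  have hq' : (2 : ℝ) ≤ q := by exact_mod_cast hq
  have hr' : (2 : ℝ) ≤ r := by exact_mod_cast hr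
  set c1 : ℝ := 2 * d * μ * μ' - N * (μ + μ') with hc1
  set c0 : ℝ := 2 * d * μ * μ' * ((q * r + 1) * (q + r)) - 4 * (q * r) * N * (μ + μ') with hc0
  have hs : c1 * y ^ 2 = c0 := by
    rw [hc1, hc0]
    linear_combination -(μ' : ℝ) * h - (μ : ℝ) * h'
  have hne : c1 ≠ 0 := by
    intro e
    rw [e, zero_mul] at hs
    have : 2 * (d : ℝ) * μ * μ' * (((q : ℝ) * r + 1) * (q + r) - 4 * (q * r)) = 0 := by
      rw [hc1] at e; rw [hc0] at hs
      linear_combination -hs - 4 * (q : ℝ) * r * e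
    refine mul_ne_zero (mul_ne_zero (mul_ne_zero (mul_ne_zero two_ne_zero hd') hμ) hμ') ?_ this
    have hqr : (4 : ℝ) ≤ q * r := by nlinarith
    have : (0 : ℝ) < ((q : ℝ) * r + 1) * (q + r) - 4 * (q * r) := by nlinarith
    linarith
  have hsy : y ^ 2 = c0 / c1 := by rw [eq_div_iff hne, mul_comm]; exact hs
  have hy1 : (N : ℝ) * (4 * (q * r) - y ^ 2) * (μ' - μ) =
      2 * d * μ * μ' * (((q : ℝ) * r + 1) - (q + r)) * y := by
    linear_combination (-(μ' : ℝ)) * h + (μ : ℝ) * h'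
  have hab : ((q : ℝ) * r + 1) - (q + r) ≠ 0 := by
    have : (0 : ℝ) < ((q : ℝ) - 1) * (r - 1) := mul_pos (by linarith) (by linarith)
    linarith
  have hcoef : 2 * (d : ℝ) * μ * μ' * (((q : ℝ) * r + 1) - (q + r)) ≠ 0 :=
    mul_ne_zero (mul_ne_zero (mul_ne_zero (mul_ne_zero two_ne_zero hd') hμ) hμ') hab
  refine ⟨(N : ℚ) * (4 * (q * r) -
      (2 * d * μ * μ' * ((q * r + 1) * (q + r)) - 4 * (q * r) * N * (μ + μ')) /
        (2 * d * μ * μ' - N * (μ + μ'))) * (μ' - μ) /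
      (2 * d * μ * μ' * (((q : ℚ) * r + 1) - (q + r))), ?_⟩
  push_cast
  rw [eq_div_iff hcoef, mul_comm y, ← hy1, hsy]

theorem even_restrict {q r N : ℕ} (hq : 2 ≤ q) (hr : 2 ≤ r) (hN : 0 < N) {m : ℕ}
    (h : ∀ j : ℕ, 1 ≤ j → j ≤ m → ∃ μ : ℕ, ((m + 1 : ℕ) : ℝ) * μ *
        (((q : ℝ) * r + 1 - 2 * √((q : ℝ) * r) * cos (j * (π / (m + 1 : ℕ)))) *
          ((q : ℝ) + r + 2 * √((q : ℝ) * r) * cos (j * (π / (m + 1 : ℕ))))) =
      N * (4 * ((q : ℝ) * r) - (2 * √((q : ℝ) * r) * cos (j * (π / (m + 1 : ℕ)))) ^ 2)) :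
    m + 1 ∈ ({1, 2, 3, 4} : Set ℕ) := by
  by_cases hm : m = 0
  · simp [hm]
  set u := √((q : ℝ) * r) with hu
  have hu0 : 0 < u := sqrt_pos.2 (by positivity)
  have hu2 : u ^ 2 = (q : ℝ) * r := sq_sqrt (by positivity)
  set δ := π / (m + 1 : ℕ) with hδ
  have hδ0 : 0 < δ := by rw [hδ]; positivity
  have hdδ : ((m + 1 : ℕ) : ℝ) * δ = π := by rw [hδ]; field_simp
  have hrat : ∀ j : ℕ, 1 ≤ j → j ≤ m → ∃ c : ℚ, 2 * u * cos (j * δ) = c := by
    intro j h1 h2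
    obtain ⟨μ, hμ⟩ := h j h1 h2
    obtain ⟨μ', hμ'⟩ := h (m + 1 - j) (by omega) (by omega)
    have e : cos (((m + 1 - j : ℕ) : ℝ) * δ) = -cos (j * δ) := by
      rw [Nat.cast_sub (by omega), sub_mul, hdδ, cos_pi_sub]
    rw [e] at hμ'
    refine rat_even hq hr hN (Nat.succ_pos m) ?_ hμ (by rw [mul_neg, neg_sq, sub_neg_eq_add, ← sub_eq_add_neg] at hμ'; exact hμ')
    have h3 : 0 < j * δ := mul_pos (by exact_mod_cast h1) hδ0
    have h4 : j * δ < π := by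
      rw [← hdδ]; exact mul_lt_mul_of_pos_right (by exact_mod_cast (by omega : j < m + 1)) hδ0
    have hs : 0 < sin (j * δ) := sin_pos_of_pos_of_lt_pi h3 h4
    rw [mul_pow, mul_pow, hu2]
    nlinarith [sin_sq_add_cos_sq ((j : ℝ) * δ), mul_pos hs hs,
      (show (0:ℝ) < q * r by positivity)]
  obtain ⟨c, hc⟩ := hrat 1 le_rfl (by omega)
  rw [Nat.cast_one, one_mul] at hc
  have h2 : cos (((2 / (m + 1 : ℕ) : ℚ) : ℝ) * π) = (c ^ 2 / (2 * (q * r)) - 1 : ℚ) := by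
    have e : ((2 / (m + 1 : ℕ) : ℚ) : ℝ) * π = 2 * δ := by rw [hδ]; push_cast; ring
    rw [e, cos_two_mul]
    push_cast
    rw [← hc, mul_pow, mul_pow, hu2]
    field_simp

  have hmem := niven_angle_div_pi_eq ⟨_, h2⟩ ⟨by positivity, by
    rw [div_le_one (by positivity)]; exact_mod_cast (by omega : 2 ≤ m + 1)⟩
  simp only [Set.mem_insert_iff, Set.mem_singleton_iff] at hmem
  have hd : ((m + 1 : ℕ) : ℚ) ≠ 0 := by positivity
  rcases hmem with e | e | e | e | e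
  · exact absurd e (div_ne_zero two_ne_zero hd)
  · exfalso
    have hm5 : m = 5 := by
      rw [div_eq_div_iff hd (by norm_num)] at e
      have : 2 * 3 = 1 * (m + 1) := by exact_mod_cast e
      omega
    obtain ⟨c2, hc2⟩ := hrat 2 (by omega) (by omega)
    have e2 : ((2 : ℕ) : ℝ) * δ = π / 3 := by rw [hδ, hm5]; push_cast; ring
    rw [e2, cos_pi_div_three] at hc2
    have h6 : cos (((1 / 6 : ℚ) : ℝ) * π) = (c / (2 * c2) : ℚ) := by
      have e : ((1 / 6 : ℚ) : ℝ) * π = δ := by rw [hδ, hm5]; push_cast; ring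
      rw [e]
      push_cast
      rw [← hc, ← hc2]
      field_simp
    have := niven_angle_div_pi_eq ⟨_, h6⟩ ⟨by norm_num, by norm_num⟩
    norm_num at this
  all_goals
    rw [div_eq_iff hd] at e
    field_simp at e
  · have : m + 1 = 4 := by exact_mod_cast (by linarith : ((m + 1 : ℕ) : ℚ) = 4)
    simp [this]
  · have : m + 1 = 3 := by exact_mod_cast (by linarith : ((m + 1 : ℕ) : ℚ) = 3)
    simp [this]
  · have : m + 1 = 2 := by exact_mod_cast (by linarith : ((m + 1 : ℕ) : ℚ) = 2)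
    simp [this]

theorem odd_restrict {q N : ℕ} (hq : 2 ≤ q) (hN : 0 < N) {h₀ : ℕ}
    (h : ∃ μ : ℕ, ((2 * (h₀ + 1) + 1 : ℕ) : ℝ) * μ *
        ((q : ℝ) * q + 1 - 2 * q * cos ((1 : ℕ) * (2 * π / (2 * (h₀ + 1) + 1 : ℕ)))) =
      2 * N * (2 * q - 2 * q * cos ((1 : ℕ) * (2 * π / (2 * (h₀ + 1) + 1 : ℕ))))) :
    2 * (h₀ + 1) + 1 = 3 := by
  obtain ⟨μ, hμ⟩ := h
  set n := 2 * (h₀ + 1) + 1 with hn
  set C' := cos ((1 : ℕ) * (2 * π / (n : ℕ))) with hC
  have hq' : (2 : ℝ) ≤ q := by exact_mod_cast hq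
  set k : ℝ := 2 * (q : ℝ) * (2 * N - n * μ) with hk
  have hk0 : k ≠ 0 := by
    intro e
    rw [hk, mul_eq_zero, sub_eq_zero] at e
    rcases e with e | e
    · linarith
    · rw [← e] at hμ
      have h0 : (2 : ℝ) * N * (((q : ℝ) - 1) ^ 2) = 0 := by linear_combination hμ
      have : (0 : ℝ) < 2 * N * (((q : ℝ) - 1) ^ 2) := by
        have : (0 : ℝ) < N := by exact_mod_cast hN
        have : (0 : ℝ) < (q : ℝ) - 1 := by linarith
        positivity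
      linarith
  have hCrat : C' = ((4 * N * q - n * μ * (q * q + 1)) / (2 * q * (2 * N - n * μ)) : ℚ) := by
    push_cast
    rw [eq_div_iff hk0, hk]
    linear_combination hμ
  have e : ((2 / n : ℚ) : ℝ) * π = ((1 : ℕ) : ℝ) * (2 * π / (n : ℕ)) := by push_cast; ring
  rw [hC, ← e] at hCrat
  have hn0 : (n : ℚ) ≠ 0 := by rw [hn]; positivity
  have hmem := niven_angle_div_pi_eq ⟨_, hCrat⟩ ⟨by positivity, by
    rw [div_le_one (by positivity)]; exact_mod_cast (by omega : 2 ≤ n)⟩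
  simp only [Set.mem_insert_iff, Set.mem_singleton_iff] at hmem
  rcases hmem with e | e | e | e | e
  · exact absurd e (div_ne_zero two_ne_zero hn0)
  all_goals
    rw [div_eq_iff hn0] at e
    field_simp at e
    norm_cast at e
    omega

end CfsgLib.FeitHigman
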